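import Mathlib

/-!
# Arithmetic of groups of order `9 * 2 ^ a * q ^ b`
-/

set_option autoImplicit false

namespace Cfsg.Agent.NineTwoPrimes

theorem odd_dvd_two_pow {s x : ℕ} (hs : Odd s) (h : s ∣ 2 ^ x) : s = 1 := by
  obtain ⟨i, -, rfl⟩ := (Nat.dvd_prime_pow Nat.prime_two).1 h
  cases i with
  | zero => rfl
  | succ i => exact absurd hs (Nat.not_odd_iff_even.2 ⟨2 ^ i, by rw [pow_succ]; ring⟩)

/-- An odd prime power next to a power of two is a prime, unless it is nine. -/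
theorem exp_eq_one {q x y : ℕ} (hq5 : 5 ≤ q) (hqo : Odd q) (hy : 1 ≤ y)
    (h : q ^ y = 2 ^ x + 1 ∨ q ^ y + 1 = 2 ^ x) : y = 1 := by
  have hq : q % 2 = 1 := Nat.odd_iff.1 hqo
  have hpow : ∀ i, q ^ i % 2 = 1 := fun i => Nat.odd_iff.1 hqo.pow
  rcases Nat.even_or_odd y with ⟨k, hk⟩ | hyo
  · have hk1 : 1 ≤ k := by omega
    have hqk : 5 ≤ q ^ k := le_trans hq5 (Nat.le_self_pow (by omega) q)
    have hsq : q ^ y = q ^ k * q ^ k := by rw [hk, pow_add]
    rcases h with h | h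
    · have h1 : 2 ^ x = (q ^ k - 1) * (q ^ k + 1) := by
        obtain ⟨c, hc⟩ : ∃ c, q ^ k = c + 1 := ⟨q ^ k - 1, by omega⟩
        rw [hsq, hc] at h
        rw [hc, Nat.add_sub_cancel]
        nlinarith
      obtain ⟨i, -, hi⟩ := (Nat.dvd_prime_pow Nat.prime_two).1 (h1 ▸ dvd_mul_right _ _ :
        q ^ k - 1 ∣ 2 ^ x)
      obtain ⟨j, -, hj⟩ := (Nat.dvd_prime_pow Nat.prime_two).1 (h1 ▸ dvd_mul_left _ _ :
        q ^ k + 1 ∣ 2 ^ x)
      have hi2 : 2 ≤ i := by
        by_contra hlt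
        have : 2 ^ i ≤ 2 ^ 1 := Nat.pow_le_pow_right two_pos (by omega)
        omega
      have hj2 : 2 ≤ j := by
        by_contra hlt
        have : 2 ^ j ≤ 2 ^ 1 := Nat.pow_le_pow_right two_pos (by omega)
        omega
      obtain ⟨i', rfl⟩ := Nat.exists_eq_add_of_le hi2
      obtain ⟨j', rfl⟩ := Nat.exists_eq_add_of_le hj2
      rw [pow_add] at hi hj
      omega
    · exfalso
      have h4 : q ^ k * q ^ k % 4 = 1 := by
        have := hpow k
        rw [Nat.mul_mod]
        have : q ^ k % 4 = 1 ∨ q ^ k % 4 = 3 := by omega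
        rcases this with e | e <;> rw [e]
      rcases Nat.lt_or_ge x 2 with hx | hx
      · have : 2 ^ x ≤ 2 ^ 1 := Nat.pow_le_pow_right two_pos (by omega)
        have : 25 ≤ q ^ k * q ^ k := le_trans (by norm_num) (Nat.mul_le_mul hqk hqk)
        omega
      · obtain ⟨x', rfl⟩ := Nat.exists_eq_add_of_le hx
        rw [pow_add] at h
        omega
  · have hlin : ∀ y', 3 ≤ y' → q * 2 < q ^ y' := fun y' hy' =>
      lt_of_lt_of_le (by nlinarith : q * 2 < q ^ 2) (Nat.pow_le_pow_right (by omega) (by omega))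
    by_contra hy1
    have hy3 : 3 ≤ y := by obtain ⟨k, rfl⟩ := hyo; omega
    have hbig := hlin y hy3
    rcases h with h | h
    · obtain ⟨c, rfl⟩ : ∃ c, q = c + 1 := ⟨q - 1, by omega⟩
      have hg := geom_sum_mul_add c y
      have hS : (∑ i ∈ Finset.range y, (c + 1) ^ i) ∣ 2 ^ x := ⟨c, by omega⟩
      have hodd : Odd (∑ i ∈ Finset.range y, (c + 1) ^ i) := by
        rw [Finset.odd_sum_iff_odd_card_odd, Finset.filter_true_of_mem fun i _ => hqo.pow,
          Finset.card_range]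
        exact hyo
      rw [odd_dvd_two_pow hodd hS] at hg
      omega
    · have hg := geom_sum_mul (-(q : ℤ)) y
      set S := ∑ i ∈ Finset.range y, (-(q : ℤ)) ^ i with hSdef
      have h' : ((q : ℤ)) ^ y + 1 = 2 ^ x := by exact_mod_cast h
      have hg' : S * ((q : ℤ) + 1) = 2 ^ x := by
        rw [hyo.neg_pow] at hg
        linarith [show S * (-(q : ℤ) - 1) = -(S * ((q : ℤ) + 1)) by ring]
      have hdvd : S.natAbs ∣ 2 ^ x := by
        have := Int.natAbs_dvd_natAbs.2 (Dvd.intro _ hg' : S ∣ 2 ^ x)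
        simpa [Int.natAbs_pow] using this
      have hodd : Odd S.natAbs := by
        have hev : ∀ j, Even (∑ i ∈ Finset.range j, (-(q : ℤ)) ^ i - (j : ℤ)) := by
          intro j
          induction j with
          | zero => simp
          | succ j ih =>
            rw [Finset.sum_range_succ, Nat.cast_succ, add_sub_add_comm]
            exact ih.add ((((Int.odd_coe_nat q).2 hqo).neg.pow).sub_odd odd_one)
        rw [Int.natAbs_odd, hSdef]
        simpa using (hev y).add_odd ((Int.odd_coe_nat y).2 hyo)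
      have hS1 : S.natAbs = 1 := odd_dvd_two_pow hodd hdvd
      have hpos : (0 : ℤ) < S := by
        have : (0 : ℤ) < S * ((q : ℤ) + 1) := by rw [hg']; positivity
        exact pos_of_mul_pos_left this (by positivity)
      have : S = 1 := by omega
      rw [this, one_mul] at hg'
      have : (q ^ y : ℤ) = q := by linarith
      have : q ^ y = q := by exact_mod_cast this
      omega

/-- Consecutive numbers greater than one built from `2` and `q`. -/
theorem consecutive {q n m A B : ℕ} (hq : q.Prime) (hq5 : 5 ≤ q) (hn1 : 1 < n) (hm1 : 1 < m)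
    (hn : n ∣ 2 ^ A * q ^ B) (hm : m ∣ 2 ^ A * q ^ B) (h : n = m + 1 ∨ m = n + 1) :
    ∃ x, (q = 2 ^ x + 1 ∨ q + 1 = 2 ^ x) ∧ ((n = q ∧ m = 2 ^ x) ∨ (n = 2 ^ x ∧ m = q)) := by
  have hqo : Odd q := hq.odd_of_ne_two (by omega)
  have hmul := exists_dvd_and_dvd_of_dvd_mul hn
  have hmul' := exists_dvd_and_dvd_of_dvd_mul hm
  obtain ⟨n₁, n₂, hn₁, hn₂, rfl⟩ := hmul
  obtain ⟨m₁, m₂, hm₁, hm₂, rfl⟩ := hmul'
  obtain ⟨i, -, rfl⟩ := (Nat.dvd_prime_pow Nat.prime_two).1 hn₁
  obtain ⟨j, -, rfl⟩ := (Nat.dvd_prime_pow hq).1 hn₂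
  obtain ⟨k, -, rfl⟩ := (Nat.dvd_prime_pow Nat.prime_two).1 hm₁
  obtain ⟨l, -, rfl⟩ := (Nat.dvd_prime_pow hq).1 hm₂
  have hcop : Nat.Coprime (2 ^ i * q ^ j) (2 ^ k * q ^ l) := by
    rcases h with h | h
    · rw [h]; exact (Nat.coprime_add_self_left.2 (Nat.coprime_one_left _) :
        Nat.Coprime (1 + 2 ^ k * q ^ l) _) |> fun t => by rwa [add_comm] at t
    · rw [h]; exact (Nat.coprime_add_self_right.2 (Nat.coprime_one_right _) :
        Nat.Coprime _ (1 + 2 ^ i * q ^ j)) |> fun t => by rwa [add_comm] at t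
  have hik : i = 0 ∨ k = 0 := by
    by_contra hne
    push Not at hne
    have h2 : (2 : ℕ) ∣ Nat.gcd (2 ^ i * q ^ j) (2 ^ k * q ^ l) := Nat.dvd_gcd
      (Dvd.dvd.mul_right (dvd_pow_self 2 hne.1) _) (Dvd.dvd.mul_right (dvd_pow_self 2 hne.2) _)
    rw [hcop] at h2
    omega
  have hjl : j = 0 ∨ l = 0 := by
    by_contra hne
    push Not at hne
    have h2 : q ∣ Nat.gcd (2 ^ i * q ^ j) (2 ^ k * q ^ l) := Nat.dvd_gcd
      (Dvd.dvd.mul_left (dvd_pow_self q hne.1) _) (Dvd.dvd.mul_left (dvd_pow_self q hne.2) _)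
    rw [hcop] at h2
    exact hq.not_dvd_one h2
  rcases hik with rfl | rfl
  · rw [pow_zero, one_mul] at h hn1 ⊢
    have hj : 1 ≤ j := by
      rcases j with _ | j
      · simp at hn1
      · omega
    obtain rfl : l = 0 := hjl.resolve_left (by omega)
    rw [pow_zero, mul_one] at h hm1 ⊢
    obtain rfl := exp_eq_one hq5 hqo hj (x := k) (by omega)
    rw [pow_one] at h ⊢
    exact ⟨k, by omega, Or.inl ⟨rfl, rfl⟩⟩
  · rw [pow_zero, one_mul] at h hm1 ⊢
    have hl : 1 ≤ l := by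
      rcases l with _ | l
      · simp at hm1
      · omega
    obtain rfl : j = 0 := hjl.resolve_right (by omega)
    rw [pow_zero, mul_one] at h hn1 ⊢
    obtain rfl := exp_eq_one hq5 hqo hl (x := i) (by omega)
    rw [pow_one] at h ⊢
    exact ⟨i, by omega, Or.inr ⟨rfl, rfl⟩⟩

theorem small_cases {q x : ℕ} (hq : q.Prime) (hq5 : 5 ≤ q) (h : q = 2 ^ x + 1 ∨ q + 1 = 2 ^ x) :
    (q = 5 ∧ x = 2) ∨ (q = 7 ∧ x = 3) ∨ (q = 17 ∧ x = 4) ∨ 5 ≤ x := by
  by_contra hne
  have hx : x ≤ 4 := by omega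
  interval_cases x <;> norm_num at h <;> rcases h with h | h <;>
    first | omega | (rcases (show q = 9 ∨ q = 15 by omega) with rfl | rfl <;> norm_num at hq)

/-- For a large prime next to a power of two, `3` and `9` are no powers of two modulo it. -/
theorem three_pow_two_pow_ne {q x t : ℕ} (hx : 5 ≤ x) (h : q = 2 ^ x + 1 ∨ q + 1 = 2 ^ x)
    (ht : t = 3 ∨ t = 9) (r : ℕ) : t * 2 ^ r % q ≠ 1 := by
  intro hr
  obtain ⟨x', rfl⟩ := Nat.exists_eq_add_of_le hx
  set x := 5 + x' with hxdef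
  have hX : 32 ≤ 2 ^ x := le_trans (by norm_num) (Nat.pow_le_pow_right two_pos hx)
  have hone : 1 % q = 1 := Nat.mod_eq_of_lt (by omega)
  -- `t` is a power of two modulo `q`
  have hper : 2 ^ (2 * x) ≡ 1 [MOD q] := by
    rw [two_mul, pow_add]
    rcases h with h | h
    · refine ((Nat.modEq_iff_dvd' ?_).2 ⟨2 ^ x - 1, ?_⟩).symm
      · exact Nat.one_le_iff_ne_zero.2 (by positivity)
      · obtain ⟨c, hc⟩ : ∃ c, 2 ^ x = c + 1 := ⟨2 ^ x - 1, by omega⟩
        rw [h, hc, Nat.add_sub_cancel]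
        have : (c + 1) * (c + 1) = (c + 1 + 1) * c + 1 := by ring
        omega
    · have h1 : 2 ^ x ≡ 1 [MOD q] :=
        ((Nat.modEq_iff_dvd' (by omega)).2 (dvd_of_eq (by omega))).symm
      simpa using h1.mul h1
  have hr' : t * 2 ^ (r % (2 * x)) ≡ 1 [MOD q] := by
    have h1 : t * 2 ^ r ≡ t * 2 ^ (r % (2 * x)) [MOD q] := by
      conv_lhs => rw [← Nat.mod_add_div r (2 * x), pow_add, pow_mul]
      simpa using ((hper.pow (r / (2 * x))).mul_left (2 ^ (r % (2 * x)))).mul_left t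
    exact h1.symm.trans (hr.trans hone.symm)
  set s := r % (2 * x) with hs
  have hs2 : s < 2 * x := Nat.mod_lt _ (by omega)
  have ht2 : t ≡ 2 ^ (2 * x - s) [MOD q] := by
    have h1 := (hr'.mul_right (2 ^ (2 * x - s)))
    rw [mul_assoc, ← pow_add, Nat.add_sub_cancel' hs2.le, one_mul] at h1
    calc t = t * 1 := (mul_one t).symm
      _ ≡ t * 2 ^ (2 * x) [MOD q] := (hper.symm.mul_left t)
      _ ≡ _ [MOD q] := h1
  set l := 2 * x - s with hl
  have hodd : ∀ i, 2 ^ i ≠ t := fun i hi => by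
    rcases i with _ | i
    · rcases ht with rfl | rfl <;> simp at hi
    · rw [pow_succ] at hi; omega
  rcases h with h | h
  · rcases Nat.lt_or_ge x l with hlx | hlx
    · -- `2 ^ l ≡ - 2 ^ (l - x)`
      have h1 : 2 ^ (l - x) + 2 ^ l ≡ 0 [MOD q] := by
        have : 2 ^ (l - x) + 2 ^ l = 2 ^ (l - x) * q := by
          rw [h, mul_add, mul_one, ← pow_add, Nat.sub_add_cancel hlx.le, add_comm]
        rw [this]
        exact Nat.modEq_zero_iff_dvd.2 (dvd_mul_left q _)
      have h2 : (2 ^ (l - x) + t) % q = 0 := ((ht2.add_left _).trans h1)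
      have hle : 2 ^ (l - x) ≤ 2 ^ x := Nat.pow_le_pow_right two_pos (by omega)
      obtain ⟨c, hc⟩ := Nat.dvd_of_mod_eq_zero h2
      obtain rfl : c = 1 := by
        rcases c with _ | _ | c
        · rw [Nat.mul_zero] at hc
          rcases ht with rfl | rfl <;> simp at hc
        · rfl
        · have h5 : q * 2 ≤ q * (c + 1 + 1) := Nat.mul_le_mul_left q (by omega)
          generalize q * (c + 1 + 1) = w at hc h5
          rcases ht with rfl | rfl <;> linarith
      rcases (show l - x = x ∨ l - x ≤ x - 1 by omega) with he | he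
      · rw [he] at hc; omega
      · have h3 : 2 ^ (l - x) ≤ 2 ^ (x - 1) := Nat.pow_le_pow_right two_pos he
        have h4 : 2 ^ x = 2 ^ (x - 1) * 2 := by rw [← pow_succ, Nat.sub_add_cancel (by omega)]
        omega
    · have hle : 2 ^ l ≤ 2 ^ x := Nat.pow_le_pow_right two_pos hlx
      rw [Nat.ModEq, Nat.mod_eq_of_lt (show t < q by omega),
        Nat.mod_eq_of_lt (show 2 ^ l < q by omega)] at ht2
      exact hodd l ht2.symm
  · -- `2 ^ x ≡ 1`
    have h1 : 2 ^ x ≡ 1 [MOD q] :=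
      ((Nat.modEq_iff_dvd' (by omega)).2 (dvd_of_eq (by omega))).symm
    have h2 : t ≡ 2 ^ (l % x) [MOD q] := by
      refine ht2.trans ?_
      conv_lhs => rw [← Nat.mod_add_div l x, pow_add, pow_mul]
      simpa using (h1.pow (l / x)).mul_left (2 ^ (l % x))
    have hle : 2 ^ (l % x) ≤ 2 ^ (x - 1) :=
      Nat.pow_le_pow_right two_pos (by have := Nat.mod_lt l (show 0 < x by omega); omega)
    have h4 : 2 ^ x = 2 ^ (x - 1) * 2 := by rw [← pow_succ, Nat.sub_add_cancel (by omega)]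
    rw [Nat.ModEq, Nat.mod_eq_of_lt (show t < q by omega),
      Nat.mod_eq_of_lt (show 2 ^ (l % x) < q by omega)] at h2
    exact hodd _ h2.symm

/-- Nine divides `q - 1` only for large primes next to a power of two. -/
theorem large_of_nine_dvd {q x : ℕ} (hx : 5 ≤ x) (h : q = 2 ^ x + 1 ∨ q + 1 = 2 ^ x)
    (h9 : 9 ∣ q - 1) : 127 ≤ q := by
  rcases h with h | h
  · rw [h, Nat.add_sub_cancel] at h9
    exact absurd ((Nat.prime_three).dvd_of_dvd_pow ((dvd_mul_right 3 3).trans h9)) (by norm_num)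
  · by_contra hlt
    have hx7 : x < 7 := by
      by_contra hge
      have : 2 ^ 7 ≤ 2 ^ x := Nat.pow_le_pow_right two_pos (not_lt.1 hge)
      omega
    interval_cases x <;> norm_num at h <;> omega

end Cfsg.Agent.NineTwoPrimes
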