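import Mathlib
import Cfsg.Agent.Char.SchurBound
import Cfsg.Agent.Char.Galois
import Cfsg.Agent.BlockThms.SimpleThreePrimes
import Cfsg.Agent.CharArith.Central

/-!
# Characters of a simple group of order `9 * 2 ^ a * q ^ b`
-/

set_option autoImplicit false

namespace Cfsg.Agent.NineTwoPrimes

open scoped ComplexConjugate
open Cfsg.Agent Cfsg.Agent.Blocks

universe u

variable {G : Type u} [Group G] [Fintype G]

/-- The values of a character are fixed by every embedding of `ℂ`. -/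
def IsFixed (χ : G → ℂ) : Prop := ∀ (σ : ℂ →+* ℂ) (g : G), σ (χ g) = χ g

theorem schurSum_le_one {q n : ℕ} (hq : 5 ≤ q) (hn : n ≤ q + 1) : Char.schurSum q n ≤ 1 := by
  rw [Char.schurSum, Finset.sum_eq_single 0]
  · rw [pow_zero, mul_one]
    refine Nat.le_of_lt_succ ((Nat.div_lt_iff_lt_mul (by omega)).2 ?_)
    omega
  · intro i _ hi
    refine Nat.div_eq_of_lt ?_
    have h1 : q ≤ q ^ i := Nat.le_self_pow hi q
    calc n ≤ q + 1 := hn
      _ < (q - 1) * q := by nlinarith [Nat.sub_add_cancel (show 1 ≤ q by omega)]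
      _ ≤ (q - 1) * q ^ i := Nat.mul_le_mul_left _ h1
  · exact fun h => absurd (Finset.mem_range.2 (by omega)) h

variable [IsSimpleGroup G] (hna : ∃ u v : G, u * v ≠ v * u)
include hna

/-- A nontrivial irreducible character has trivial kernel. -/
theorem kernel_eq_one {χ : Cfsg.IrrCharacter G} (h1 : χ ≠ triv G) {g : G}
    (hg : (χ : G → ℂ) g = (χ : G → ℂ) 1) : g = 1 := by
  have hc := Char.IsIrr.isCharacter χ.2
  rcases (Char.kerSubgroup_normal hc).eq_bot_or_eq_top with h | h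
  · have : g ∈ Char.kerSubgroup hc := hg
    rwa [h, Subgroup.mem_bot] at this
  exfalso
  have hall : ∀ k, (χ : G → ℂ) k = (χ : G → ℂ) 1 := fun k =>
    (Char.mem_kerSubgroup hc).1 (h ▸ Subgroup.mem_top k)
  refine h1 (Subtype.ext (funext fun k => ?_))
  have hd := Char.classInner_irr_self χ.2
  rw [hall k]
  simp only [Cfsg.classInner, hall, ← charDegree_cast hc, Finset.sum_const, Finset.card_univ,
    ← Nat.card_eq_fintype_card, nsmul_eq_mul, Complex.conj_natCast,
    inv_mul_cancel_left₀ (Char.card_ne_zero (G := G))] at hd ⊢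
  have h2 : Cfsg.charDegree (χ : G → ℂ) * Cfsg.charDegree (χ : G → ℂ) = 1 := by exact_mod_cast hd
  rw [Nat.eq_one_of_mul_eq_one_left h2, Nat.cast_one]
  rfl

/-- The only linear character is the trivial one. -/
theorem eq_triv_of_degree_one {χ : Cfsg.IrrCharacter G}
    (h : Cfsg.charDegree (χ : G → ℂ) = 1) : χ = triv G := by
  by_contra h1
  obtain ⟨u, v, huv⟩ := hna
  have hc := Char.IsIrr.isCharacter χ.2
  have hd : (χ : G → ℂ) 1 = 1 := by rw [← charDegree_cast hc, h, Nat.cast_one]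
  refine huv ?_
  have hm := CharArith.linear_mul hc hd
  have hk : u * v * u⁻¹ * v⁻¹ = 1 := kernel_eq_one ⟨u, v, huv⟩ h1 (by
    have hinv : ∀ a : G, (χ : G → ℂ) a * (χ : G → ℂ) a⁻¹ = 1 := fun a => by
      rw [← hm, mul_inv_cancel, hd]
    rw [hm, hm, hm, hd]
    linear_combination ((χ : G → ℂ) v * (χ : G → ℂ) v⁻¹) * hinv u + hinv v)
  rwa [mul_inv_eq_one, mul_inv_eq_iff_eq_mul] at hk

/-- A nontrivial character of degree prime to the class size of `z ≠ 1` vanishes at `z`. -/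
theorem apply_eq_zero_of_coprime {χ : Cfsg.IrrCharacter G} (h1 : χ ≠ triv G) {z : G}
    (hz : z ≠ 1)
    (hcop : (Cfsg.charDegree (χ : G → ℂ)).Coprime (Subgroup.centralizer ({z} : Set G)).index) :
    (χ : G → ℂ) z = 0 := by
  obtain ⟨χ, m, ρ, hρ, rfl⟩ := χ
  have hn : ρ.character 1 = (Cfsg.charDegree ρ.character : ℂ) :=
    (charDegree_cast ⟨m, ρ, rfl⟩).symm
  refine (Char.IsIrr.zero_or_norm_eq ⟨m, ρ, hρ, rfl⟩ z hn hcop).resolve_right fun hnorm => ?_
  have hfin : (Module.finrank ℂ (Fin m → ℂ) : ℝ) = Cfsg.charDegree ρ.character := by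
    have := hn
    rw [ρ.char_one] at this
    exact_mod_cast this
  obtain ⟨N, hN, hNmem⟩ := Char.exists_normal_of_scalar ρ
  rcases hN.eq_bot_or_eq_top with hb | ht
  · exact hz (by simpa [hb] using (hNmem z).2 ((Char.norm_character_eq_iff ρ z).1
      (by rw [hfin]; exact hnorm)))
  refine h1 (eq_triv_of_degree_one hna ?_)
  have hd := Char.classInner_irr_self (⟨m, ρ, hρ, rfl⟩ : Cfsg.IsIrrCharacter G ρ.character)
  have hall : ∀ g, ρ.character g * conj (ρ.character g) =
      (Cfsg.charDegree ρ.character : ℂ) * (Cfsg.charDegree ρ.character : ℂ) := fun g => by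
    rw [Complex.mul_conj, Complex.normSq_eq_norm_sq,
      (Char.norm_character_eq_iff ρ g).2 ((hNmem g).1 (ht ▸ Subgroup.mem_top g)), hfin]
    push_cast
    ring
  simp only [Cfsg.classInner, hall, Finset.sum_const, Finset.card_univ,
    ← Nat.card_eq_fintype_card, nsmul_eq_mul,
    inv_mul_cancel_left₀ (Char.card_ne_zero (G := G))] at hd
  exact Nat.eq_one_of_mul_eq_one_left
    (show Cfsg.charDegree ρ.character * Cfsg.charDegree ρ.character = 1 by exact_mod_cast hd)

variable {q a b : ℕ}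

/-- A character with all values fixed by the embeddings bounds the exponent of a prime. -/
theorem exp_le_one [hq : Fact q.Prime] (hq5 : 5 ≤ q) (hcard : Nat.card G = 9 * 2 ^ a * q ^ b)
    {χ : Cfsg.IrrCharacter G} (h1 : χ ≠ triv G)
    (hdeg : Cfsg.charDegree (χ : G → ℂ) ≤ q + 1) (hfix : IsFixed (χ : G → ℂ)) : b ≤ 1 := by
  obtain ⟨S⟩ : Nonempty (Sylow q G) := inferInstance
  have hS : Nat.card (S : Subgroup G) = q ^ b := by
    rw [S.card_eq_multiplicity, hcard, mul_assoc,
      Nat.factorization_mul (by norm_num) (by positivity),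
      Nat.factorization_mul (by positivity) (pow_ne_zero _ hq.out.ne_zero), Finsupp.add_apply,
      Finsupp.add_apply, hq.out.factorization_pow,
      Nat.factorization_eq_zero_of_not_dvd (n := 9) (fun h => by
        have h3 := Nat.le_of_dvd (by norm_num) h
        have := hq.out
        interval_cases q <;> first | omega | (norm_num at this; done) | norm_num at h),
      Nat.factorization_eq_zero_of_not_dvd (n := 2 ^ a) (fun h => by
        have := Nat.le_of_dvd two_pos (hq.out.dvd_of_dvd_pow h)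
        omega)]
    simp
  have hc := Char.IsIrr.isCharacter χ.2
  obtain ⟨c, hc1, hc2⟩ := Char.exists_index_ker_le hq.out (Cfsg.charDegree (χ : G → ℂ))
    (P := (S : Subgroup G)) hS _ (Char.isCharacter_res (S : Subgroup G) hc)
    (by rw [charDegree_cast hc]; rfl) (fun k hk g => by
      obtain ⟨σ, hσ⟩ := Char.exists_sigma.{u} (a := b) hq.out hk
      have h := hσ (S : Subgroup G) (hS ▸ dvd_rfl) _ (Char.isCharacter_res _ hc) g
      rw [hfix σ] at h
      exact h.symm)
  have hbot : Char.kerSubgroup (Char.isCharacter_res (S : Subgroup G) hc) = ⊥ := by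
    refine (Subgroup.eq_bot_iff_forall _).2 fun g hg => Subtype.ext ?_
    exact kernel_eq_one hna h1 hg
  rw [hbot, Subgroup.index_bot, hS] at hc1
  have := Nat.pow_right_injective hq.out.two_le hc1
  have := schurSum_le_one hq5 hdeg
  omega

omit hna in
theorem two_le_a_of_dvd {x : ℕ} (h : 2 ^ x ∣ 9 * 2 ^ a * q) (hq2 : ¬ 2 ∣ q) : x ≤ a := by
  have h1 : (2 ^ x).Coprime (9 * q) := Nat.Coprime.pow_left _
    ((Nat.prime_two.coprime_iff_not_dvd).2 fun h' =>
      (Nat.prime_two.dvd_mul.1 h').elim (by norm_num) hq2)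
  exact (Nat.pow_dvd_pow_iff_le_right (by norm_num)).1
    (h1.dvd_of_dvd_mul_left (n := 2 ^ a) (by rwa [mul_right_comm] at h))

/-- The odd degree forced by a prime dividing the order once. -/
theorem exists_three_or_nine [Fact q.Prime] (hq5 : 5 ≤ q) (hcard : Nat.card G = 9 * 2 ^ a * q) :
    ∃ χ : Cfsg.IrrCharacter G, χ ≠ triv G ∧
      (Cfsg.charDegree (χ : G → ℂ) = 3 ∨ Cfsg.charDegree (χ : G → ℂ) = 9) := by
  classical
  have hq : q.Prime := Fact.out
  by_contra hne
  push Not at hne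
  obtain ⟨y, hy⟩ := exists_prime_orderOf_dvd_card' (G := G) q (hcard ▸ dvd_mul_left q _)
  obtain ⟨M, hM⟩ := exists_isPModular q hq
  obtain ⟨T, hT⟩ := exists_isPModular 2 Nat.prime_two
  have hy1 : y ≠ 1 := fun h => hq.ne_one (by rw [← hy, h, orderOf_one])
  have h := Char.regular_eq_sum y
  rw [if_neg hy1, ← Finset.add_sum_erase _ _ (Finset.mem_univ (triv G))] at h
  refine not_memLocalIdeal_one hT ?_
  have h1 : (1 : ℂ) =
      -∑ χ ∈ Finset.univ.erase (triv G), (χ : G → ℂ) 1 * (χ : G → ℂ) y := by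
    rw [← eq_neg_of_add_eq_zero_left h]
    simp [triv]
  rw [h1]
  refine memLocalIdeal_neg (memLocalIdeal_sum hT _ fun χ hχ => ?_)
  have hc := Char.IsIrr.isCharacter χ.2
  rw [← charDegree_cast hc]
  set d := Cfsg.charDegree (χ : G → ℂ) with hd
  have hdvd : d ∣ 9 * 2 ^ a * q := hcard ▸ CharArith.charDegree_dvd_card χ.2
  by_cases hqd : q ∣ d
  · rw [BlockThms.eq_zero_of_not_dvd_codegree (p := q) hM χ ?_ (by
      rw [Cfsg.IsPRegular, not_not, hy]), mul_zero]
    · exact memLocalIdeal_zero hT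
    rw [← hd]
    intro hcd
    have h2 : q * q ∣ 9 * 2 ^ a * q := by
      have := mul_dvd_mul hqd hcd
      rwa [Nat.mul_div_cancel' (hcard.symm ▸ hdvd), hcard] at this
    rcases hq.dvd_mul.1 (Nat.dvd_of_mul_dvd_mul_right hq.pos h2) with h | h
    · rcases hq.dvd_mul.1 (show q ∣ 3 * 3 from h) with h | h <;>
        exact absurd (Nat.le_of_dvd three_pos h) (by omega)
    · exact absurd (Nat.le_of_dvd two_pos (hq.dvd_of_dvd_pow h)) (by omega)
  by_cases h2 : 2 ∣ d
  · exact memLocalIdeal_mul_right hT ((memLocalIdeal_natCast_iff hT _).2 h2)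
      (memLocalRing_char hT hc _)
  exfalso
  have h9 : d ∣ 3 ^ 2 :=
    ((Nat.prime_two.coprime_iff_not_dvd.2 h2).pow_left a).symm.dvd_of_dvd_mul_right
      ((hq.coprime_iff_not_dvd.2 hqd).symm.dvd_of_dvd_mul_right hdvd)
  obtain ⟨i, hi, hi'⟩ := (Nat.dvd_prime_pow Nat.prime_three).1 h9
  have hne' := (Finset.mem_erase.1 hχ).1
  have h' := hne χ hne'
  rw [← hd] at h'
  interval_cases i
  · exact hne' (eq_triv_of_degree_one hna (by rw [← hd, hi']; rfl))
  · exact h'.1 (by rw [hi']; rfl)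
  · exact h'.2 (by rw [hi']; rfl)

/-- A character of degree nine bounds the two-part of centralizers of elements of order three. -/
theorem centralizer_two_part (hcard : Nat.card G = 9 * 2 ^ a * q) (hq3 : ¬ 3 ∣ q)
    {χ : Cfsg.IrrCharacter G} (hdeg : Cfsg.charDegree (χ : G → ℂ) = 9)
    (hrat : ∀ v : G, (∃ k, orderOf v = 2 ^ k) → ∀ k, ¬ 2 ∣ k →
      (χ : G → ℂ) (v ^ k) = (χ : G → ℂ) v)
    {u : G} (hu : orderOf u = 3) :
    ¬ 2 ^ 5 ∣ Nat.card (Subgroup.centralizer ({u} : Set G)) := by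
  classical
  intro h5
  have : Fact (Nat.Prime 2) := ⟨Nat.prime_two⟩
  obtain ⟨T, hT⟩ := Sylow.exists_subgroup_card_pow_prime 2 h5
  set T' := T.map (Subgroup.centralizer ({u} : Set G)).subtype with hT'
  have hT'c : Nat.card T' = 2 ^ 5 := by
    rw [hT', Nat.card_congr (Subgroup.equivMapOfInjective T _
      (Subgroup.subtype_injective _)).symm.toEquiv, hT]
  have hcomm : ∀ v ∈ T', Commute v u := fun v hv => by
    obtain ⟨w, -, rfl⟩ := hv
    exact (Subgroup.mem_centralizer_singleton_iff.1 w.2)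
  set U := Subgroup.zpowers u with hU
  let f : T' × U →* G := MonoidHom.noncommCoprod T'.subtype U.subtype fun v w => by
    obtain ⟨k, hk⟩ := w.2
    show Commute (v : G) (w : G)
    rw [← hk]
    exact (hcomm v v.2).zpow_right k
  obtain ⟨M, hM⟩ := exists_isPModular 3 Nat.prime_three
  have hc := Char.IsIrr.isCharacter χ.2
  have hχ1 : (χ : G → ℂ) 1 = 9 := by rw [← charDegree_cast hc, hdeg]; norm_num
  have hord : ∀ v : T', ∃ k, orderOf (v : G) = 2 ^ k := fun v => by
    obtain ⟨k, -, hk⟩ := (Nat.dvd_prime_pow Nat.prime_two).1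
      (hT'c ▸ Subgroup.orderOf_dvd_natCard T' v.2)
    exact ⟨k, hk⟩
  have hvan : ∀ (v : T') (w : U), w ≠ 1 → (χ : G → ℂ) ((v : G) * (w : G)) = 0 := by
    intro v w hw
    refine BlockThms.eq_zero_of_not_dvd_codegree hM χ ?_ ?_
    · rw [hdeg, hcard, mul_assoc, Nat.mul_div_cancel_left _ (by norm_num)]
      exact fun h => (Nat.prime_three.dvd_mul.1 h).elim
        (fun h => absurd (Nat.prime_three.dvd_of_dvd_pow h) (by norm_num)) hq3
    · rw [Cfsg.IsPRegular, not_not]
      obtain ⟨k, hk⟩ := hord v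
      have hwo : orderOf (w : G) = 3 := by
        have h : orderOf (w : G) ∣ 3 := by
          have := Subgroup.orderOf_dvd_natCard U w.2
          have hc3 : Nat.card U = 3 := (Nat.card_zpowers u).trans hu
          rwa [hc3] at this
        rcases (Nat.dvd_prime Nat.prime_three).1 h with h | h
        · exact absurd (Subtype.ext (orderOf_eq_one_iff.1 h)) hw
        · exact h
      obtain ⟨i, hi⟩ := w.2
      have hc' : Commute (v : G) (w : G) := by rw [← hi]; exact (hcomm v v.2).zpow_right i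
      rw [hc'.orderOf_mul_eq_mul_orderOf_of_coprime (by
        rw [hk, hwo]; exact ((Nat.coprime_primes Nat.prime_two Nat.prime_three).2
          (by norm_num)).pow_left k), hwo]
      exact dvd_mul_left 3 _
  set ψ : T' → ℂ := fun v => (χ : G → ℂ) (v : G) / 3 with hψ
  have hψc : Cfsg.IsCharacter T' ψ := by
    refine Char.isCharacter_iff.2 ⟨fun g k => ?_, fun ξ => ?_⟩
    · simp only [hψ]
      congr 1
      exact Char.isClassFunction_of_isIrr χ.2 g k
    · obtain ⟨k, hk⟩ := Char.classInner_isCharacter_eq_natCast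
        (Char.isCharacter_comp f hc)
        (Char.isCharacter_comp (MonoidHom.fst T' U) (Char.IsIrr.isCharacter ξ.2))
      refine ⟨k, ?_⟩
      rw [← hk]
      simp only [Cfsg.classInner, hψ, Nat.card_prod, Fintype.sum_prod_type]
      have hU3 : Nat.card U = 3 := by rw [hU, Nat.card_zpowers, hu]
      rw [hU3, Nat.cast_mul, mul_inv, mul_assoc]
      congr 1
      rw [Finset.mul_sum]
      refine Finset.sum_congr rfl fun v _ => ?_
      rw [Finset.sum_eq_single (1 : U) (fun w _ hw => ?_)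
        fun h => absurd (Finset.mem_univ _) h]
      · simp only [f, MonoidHom.noncommCoprod_apply, map_one, mul_one, MonoidHom.coe_fst,
          Subgroup.coe_subtype]
        push_cast
        ring
      · rw [show f (v, w) = (v : G) * (w : G) from rfl, hvan v w hw, zero_mul]
  obtain ⟨c, hc1, hc2⟩ := Char.exists_index_ker_le Nat.prime_two 3 (P := T') hT'c ψ hψc
    (by simp only [hψ, OneMemClass.coe_one, hχ1]; norm_num) (fun k hk g => by
      simp only [hψ, Subgroup.coe_pow, hrat g (hord g) k hk])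
  have hbot : Char.kerSubgroup hψc = ⊥ := by
    refine (Subgroup.eq_bot_iff_forall _).2 fun g hg => Subtype.ext ?_
    have h := (Char.mem_kerSubgroup hψc).1 hg
    simp only [hψ, OneMemClass.coe_one] at h
    refine kernel_eq_one hna (fun h1 => ?_) (div_left_inj' (by norm_num : (3 : ℂ) ≠ 0) |>.1 h)
    rw [h1] at hχ1
    simp [triv] at hχ1
  rw [hbot, Subgroup.index_bot, hT'c] at hc1
  have h4 : Char.schurSum 2 3 = 4 := by decide
  have := Nat.pow_right_injective le_rfl hc1
  omega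

omit hna in
/-- An involution in the centre of a Sylow 2-subgroup. -/
theorem exists_central_involution (h : 2 ∣ Nat.card G) :
    ∃ z : G, orderOf z = 2 ∧ ¬ 2 ∣ (Subgroup.centralizer ({z} : Set G)).index := by
  have : Fact (Nat.Prime 2) := ⟨Nat.prime_two⟩
  obtain ⟨P⟩ : Nonempty (Sylow 2 G) := inferInstance
  have : Nontrivial (P : Subgroup G) :=
    (Subgroup.nontrivial_iff_ne_bot _).2 (P.ne_bot_of_dvd_card h)
  have := P.isPGroup'.center_nontrivial
  obtain ⟨k, hk0, hk⟩ := P.isPGroup'.to_subgroup (Subgroup.center (P : Subgroup G))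
    |>.nontrivial_iff_card.1 inferInstance
  obtain ⟨z, hz⟩ := exists_prime_orderOf_dvd_card' (G := Subgroup.center (P : Subgroup G)) 2
    (hk ▸ dvd_pow_self 2 (Nat.ne_of_gt (by assumption)))
  refine ⟨((z : (P : Subgroup G)) : G), by rw [Subgroup.orderOf_coe, Subgroup.orderOf_coe, hz],
    fun hd => P.not_dvd_index (hd.trans (Subgroup.index_dvd_of_le fun v hv => ?_))⟩
  exact Subgroup.mem_centralizer_singleton_iff.2
    (congrArg Subtype.val (Subgroup.mem_center_iff.1 z.2 ⟨v, hv⟩))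

open scoped Classical in
/-- The class multiplication count of a function supported on singular elements. -/
theorem exp_two_bound [hq : Fact q.Prime] (hq5 : 5 ≤ q)
    (hcard : Nat.card G = 9 * 2 ^ a * q) {x : ℕ} {F : G → ℂ}
    {χ₁ χ₂ : Cfsg.IrrCharacter G} {s₁ s₂ : ℤ} (hs₁ : s₁ = 1 ∨ s₁ = -1) (hs₂ : s₂ = 1 ∨ s₂ = -1)
    (h₁ : Cfsg.charDegree (χ₁ : G → ℂ) = 2 ^ x) (h₁' : χ₁ ≠ triv G)
    (h₂ : Cfsg.charDegree (χ₂ : G → ℂ) = q)
    (hF : ∀ g, F g = 1 + (s₁ : ℂ) * (χ₁ : G → ℂ) g + (s₂ : ℂ) * (χ₂ : G → ℂ) g)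
    (hreg : ∀ g, ¬ 3 ∣ orderOf g → F g = 0)
    (hC : ∀ u : G, orderOf u = 3 → ¬ 2 ^ 5 ∣ Nat.card (Subgroup.centralizer ({u} : Set G))) :
    a ≤ x + 4 := by
  rcases Nat.eq_zero_or_pos a with ha | ha
  · omega
  obtain ⟨z, hz2, hzi⟩ := exists_central_involution (G := G)
    (hcard ▸ Dvd.dvd.mul_right (Dvd.dvd.mul_left (dvd_pow_self 2 (by omega)) _) _)
  have hqp : q.Prime := hq.out
  have hqo : ¬ 2 ∣ q := fun h => by
    have := (Nat.prime_dvd_prime_iff_eq Nat.prime_two hqp).1 h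
    omega
  have hz1 : z ≠ 1 := fun h => by rw [h, orderOf_one] at hz2; omega
  -- the values at `z`
  have hv1 : (χ₁ : G → ℂ) z = 0 := apply_eq_zero_of_coprime hna h₁' hz1 (by
    rw [h₁]; exact ((Nat.prime_two.coprime_iff_not_dvd).2 hzi).pow_left x)
  have hv2 : (s₂ : ℂ) * (χ₂ : G → ℂ) z = -1 := by
    have h := hF z
    rw [hreg z (by rw [hz2]; norm_num), hv1, mul_zero, add_zero] at h
    linear_combination -h
  have hone : (s₁ : ℂ) * (2 : ℂ) ^ x + (s₂ : ℂ) * q + 1 = 0 := by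
    have h := hF 1
    rw [hreg 1 (by rw [orderOf_one]; norm_num), ← charDegree_cast (Char.IsIrr.isCharacter χ₁.2),
      ← charDegree_cast (Char.IsIrr.isCharacter χ₂.2), h₁, h₂] at h
    push_cast at h
    linear_combination -h
  -- counting with multiplicity
  have hsum : ∀ χ : Cfsg.IrrCharacter G,
      ∑ k : G, ∑ h : G, (χ : G → ℂ) (h * z * h⁻¹ * (k * z * k⁻¹)) =
        (Nat.card G : ℂ) ^ 2 * ((χ : G → ℂ) z) ^ 2 / (χ : G → ℂ) 1 := by
    intro χ
    have h1 := Char.IsIrr.one_ne_zero χ.2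
    rw [eq_div_iff h1, mul_comm, Finset.mul_sum, Finset.sum_congr rfl fun k _ =>
      CharArith.classMult χ.2 z (k * z * k⁻¹)]
    simp only [Char.isClassFunction_of_isIrr χ.2 z, Finset.sum_const, Finset.card_univ,
      ← Nat.card_eq_fintype_card, nsmul_eq_mul]
    ring
  set S := ∑ k : G, ∑ h : G, F (h * z * h⁻¹ * (k * z * k⁻¹)) with hSdef
  have hS : (q : ℂ) * S = -(s₁ * s₂ : ℂ) * (2 : ℂ) ^ x * (Nat.card G : ℂ) ^ 2 := by
    have e0 : S = (Nat.card G : ℂ) ^ 2 +
        (s₁ : ℂ) * ((Nat.card G : ℂ) ^ 2 * ((χ₁ : G → ℂ) z) ^ 2 / (χ₁ : G → ℂ) 1) +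
        (s₂ : ℂ) * ((Nat.card G : ℂ) ^ 2 * ((χ₂ : G → ℂ) z) ^ 2 / (χ₂ : G → ℂ) 1) := by
      rw [hSdef, ← hsum, ← hsum]
      simp only [hF, Finset.sum_add_distrib, Finset.mul_sum, Finset.sum_const, Finset.card_univ,
        ← Nat.card_eq_fintype_card, nsmul_eq_mul, mul_one, sq]
    have hs : (s₂ : ℂ) * (s₂ : ℂ) = 1 := by rcases hs₂ with h | h <;> simp [h]
    have hsq : ((χ₂ : G → ℂ) z) ^ 2 = 1 := by
      linear_combination (((s₂ : ℂ) * (χ₂ : G → ℂ) z) - 1) * hv2 - ((χ₂ : G → ℂ) z) ^ 2 * hs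
    rw [e0, hv1, hsq, ← charDegree_cast (Char.IsIrr.isCharacter χ₂.2), h₂]
    have hq0 : (q : ℂ) ≠ 0 := Nat.cast_ne_zero.2 hqp.ne_zero
    have e1 : (q : ℂ) * ((s₂ : ℂ) * ((Nat.card G : ℂ) ^ 2 * 1 / q)) =
        (s₂ : ℂ) * (Nat.card G : ℂ) ^ 2 := by
      field_simp
    rw [zero_pow two_ne_zero, mul_zero, zero_div, mul_zero, add_zero, mul_add, e1]
    linear_combination (Nat.card G : ℂ) ^ 2 * (s₂ : ℂ) * hone -
      (q : ℂ) * (Nat.card G : ℂ) ^ 2 * hs
  -- the same sum by classes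
  set c := Nat.card (Subgroup.centralizer ({z} : Set G)) with hc
  set K := Finset.univ.filter fun s : G => IsConj z s with hK
  have hfib : ∀ (z : G) (f : G → ℂ), ∑ h : G, f (h * z * h⁻¹) =
      (Nat.card (Subgroup.centralizer ({z} : Set G)) : ℂ) *
        ∑ s ∈ Finset.univ.filter (fun s : G => IsConj z s), f s := by
    intro z f
    rw [Finset.mul_sum, ← Finset.sum_fiberwise_of_maps_to (g := fun h : G => h * z * h⁻¹)
      (t := Finset.univ.filter (fun s : G => IsConj z s))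
      (fun h _ => Finset.mem_filter.2 ⟨Finset.mem_univ _, isConj_iff.2 ⟨h, rfl⟩⟩)
      (fun h : G => f (h * z * h⁻¹))]
    refine Finset.sum_congr rfl fun s hs => ?_
    rw [Finset.sum_congr rfl (g := fun _ => f s) fun h hh => by rw [(Finset.mem_filter.1 hh).2],
      Finset.sum_const, nsmul_eq_mul]
    congr 2
    obtain ⟨h₀, hh₀⟩ := isConj_iff.1 (Finset.mem_filter.1 hs).2
    rw [← Nat.card_eq_finsetCard]
    refine Nat.card_congr
      { toFun := fun h => ⟨h₀⁻¹ * h.1, ?_⟩
        invFun := fun v => ⟨h₀ * v.1, Finset.mem_filter.2 ⟨Finset.mem_univ _, ?_⟩⟩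
        left_inv := fun h => Subtype.ext (mul_inv_cancel_left _ _)
        right_inv := fun v => Subtype.ext (inv_mul_cancel_left _ _) }
    · obtain ⟨h, hh⟩ := h
      have e : h * z * h⁻¹ = h₀ * z * h₀⁻¹ := (Finset.mem_filter.1 hh).2.trans hh₀.symm
      refine Subgroup.mem_centralizer_singleton_iff.2 ?_
      calc h₀⁻¹ * h * z = h₀⁻¹ * (h * z * h⁻¹) * h := by group
        _ = z * (h₀⁻¹ * h) := by rw [e]; group
    · rw [← hh₀]
      calc h₀ * v.1 * z * (h₀ * v.1)⁻¹ = h₀ * (v.1 * z) * v.1⁻¹ * h₀⁻¹ := by group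
        _ = _ := by rw [Subgroup.mem_centralizer_singleton_iff.1 v.2]; group
  set N : G → ℕ := fun g => ((K ×ˢ K).filter fun st => st.1 * st.2 = g).card with hN
  have hS2 : S = (c : ℂ) ^ 2 * ∑ g, F g * (N g : ℂ) := by
    rw [hSdef, hfib z (fun s => ∑ h : G, F (h * z * h⁻¹ * s)),
      Finset.sum_congr rfl fun s _ => hfib z fun t => F (t * s), ← Finset.mul_sum, ← mul_assoc, ← sq]
    congr 1
    rw [Finset.sum_comm, ← Finset.sum_product',
      ← Finset.sum_fiberwise_of_maps_to (g := fun st : G × G => st.1 * st.2) (t := Finset.univ)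
        (fun _ _ => Finset.mem_univ _) (fun st : G × G => F (st.1 * st.2))]
    refine Finset.sum_congr rfl fun g _ => ?_
    rw [Finset.sum_congr rfl (g := fun _ => F g) fun st hst => by rw [(Finset.mem_filter.1 hst).2],
      Finset.sum_const, nsmul_eq_mul, mul_comm]
  have hNc : ∀ g k, N (k * g * k⁻¹) = N g := by
    intro g k
    refine Finset.card_bij' (fun st _ => (k⁻¹ * st.1 * k, k⁻¹ * st.2 * k))
      (fun st _ => (k * st.1 * k⁻¹, k * st.2 * k⁻¹)) ?_ ?_ ?_ ?_
    · intro st hst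
      simp only [Finset.mem_filter, Finset.mem_product, hK, Finset.mem_univ, true_and] at hst ⊢
      refine ⟨⟨hst.1.1.trans (isConj_iff.2 ⟨k⁻¹, by group⟩),
        hst.1.2.trans (isConj_iff.2 ⟨k⁻¹, by group⟩)⟩, ?_⟩
      calc _ = k⁻¹ * (st.1 * st.2) * k := by group
        _ = g := by rw [hst.2]; group
    · intro st hst
      simp only [Finset.mem_filter, Finset.mem_product, hK, Finset.mem_univ, true_and] at hst ⊢
      refine ⟨⟨hst.1.1.trans (isConj_iff.2 ⟨k, rfl⟩), hst.1.2.trans (isConj_iff.2 ⟨k, rfl⟩)⟩, ?_⟩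
      rw [← hst.2]
      group
    · intro st _; ext <;> group
    · intro st _; ext <;> group
  set D := 2 ^ 4 * (9 * q) with hD
  have hCg : ∀ g, F g ≠ 0 → Nat.card (Subgroup.centralizer ({g} : Set G)) ∣ D := by
    intro g hg
    have h3 : 3 ∣ orderOf g := by_contra fun h => hg (hreg g h)
    set u := g ^ (orderOf g / 3) with hu
    have hu3 : orderOf u = 3 := orderOf_pow_orderOf_div (orderOf_pos g).ne' h3
    have hle : Subgroup.centralizer ({g} : Set G) ≤ Subgroup.centralizer ({u} : Set G) :=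
      fun v hv => by
        have hvg : Commute v g := Subgroup.mem_centralizer_singleton_iff.1 hv
        exact Subgroup.mem_centralizer_singleton_iff.2 (hvg.pow_right _).eq
    have h5 : ¬ 2 ^ 5 ∣ Nat.card (Subgroup.centralizer ({g} : Set G)) := fun h =>
      hC u hu3 (h.trans (Subgroup.card_dvd_of_le hle))
    have hd : Nat.card (Subgroup.centralizer ({g} : Set G)) ∣ 2 ^ a * (9 * q) := by
      have := Subgroup.card_subgroup_dvd_card (Subgroup.centralizer ({g} : Set G))
      rw [hcard] at this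
      rwa [show 2 ^ a * (9 * q) = 9 * 2 ^ a * q by ring]
    obtain ⟨d₁, d₂, hd₁, hd₂, hd'⟩ := exists_dvd_and_dvd_of_dvd_mul hd
    obtain ⟨i, -, rfl⟩ := (Nat.dvd_prime_pow Nat.prime_two).1 hd₁
    have hi : i ≤ 4 := by
      by_contra hi
      exact h5 (hd' ▸ Dvd.dvd.mul_right (pow_dvd_pow 2 (by omega)) _)
    rw [hd', hD]
    exact mul_dvd_mul (pow_dvd_pow 2 hi) hd₂
  have hFcl : ∀ g k, F (k * g * k⁻¹) = F g := fun g k => by
    simp only [hF, Char.isClassFunction_of_isIrr χ₁.2 g k,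
      Char.isClassFunction_of_isIrr χ₂.2 g k]
  have hFint : ∀ g, IsIntegral ℤ (F g) := fun g => by
    rw [hF]
    have hint : ∀ n : ℤ, IsIntegral ℤ (n : ℂ) := fun n => by
      simpa using isIntegral_algebraMap (R := ℤ) (A := ℂ) (x := n)
    exact (isIntegral_one.add ((hint _).mul (Char.IsChar.isIntegral (Char.IsIrr.isCharacter χ₁.2) g))).add
      ((hint _).mul (Char.IsChar.isIntegral (Char.IsIrr.isCharacter χ₂.2) g))
  obtain ⟨I, hI, hIe⟩ : ∃ I : ℂ, IsIntegral ℤ I ∧
      (D : ℂ) * ∑ g, F g * (N g : ℂ) = (Nat.card G : ℂ) * I := by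
    haveI : Finite (ConjClasses G) := Finite.of_surjective ConjClasses.mk Quotient.mk_surjective
    letI := Fintype.ofFinite (ConjClasses G)
    refine ⟨∑ C : ConjClasses G,
      if F C.out = 0 then 0
      else ((D / Nat.card (Subgroup.centralizer ({C.out} : Set G)) : ℕ) : ℂ) *
        (F C.out * (N C.out : ℂ)), IsIntegral.sum _ fun C _ => ?_, ?_⟩
    · split_ifs
      · exact isIntegral_zero
      · exact (Blocks.isIntegral_natCast _).mul ((hFint _).mul (Blocks.isIntegral_natCast _))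
    rw [Finset.mul_sum, Finset.mul_sum,
      ← Finset.sum_fiberwise_of_maps_to (g := ConjClasses.mk) (t := Finset.univ)
        (fun _ _ => Finset.mem_univ _) (fun g : G => (D : ℂ) * (F g * (N g : ℂ)))]
    refine Finset.sum_congr rfl fun C _ => ?_
    have hmem : ∀ k : G, ConjClasses.mk k = C ↔ IsConj C.out k := fun k => by
      conv_lhs => rw [← Quotient.out_eq C]
      exact ⟨fun e => (ConjClasses.mk_eq_mk_iff_isConj.1 e).symm,
        fun e => ConjClasses.mk_eq_mk_iff_isConj.2 e.symm⟩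
    rw [Finset.sum_congr rfl (g := fun _ => (D : ℂ) * (F C.out * (N C.out : ℂ))) fun k hk => by
      obtain ⟨d, hd⟩ := isConj_iff.1 ((hmem k).1 (Finset.mem_filter.1 hk).2)
      rw [← hd, hFcl, hNc], Finset.sum_const, nsmul_eq_mul]
    split_ifs with h0
    · rw [h0]; simp
    have hcl : (Finset.univ.filter fun k : G => ConjClasses.mk k = C).card *
        Nat.card (Subgroup.centralizer ({C.out} : Set G)) = Nat.card G := by
      have h := hfib C.out fun _ => 1
      simp only [Finset.sum_const, Finset.card_univ, ← Nat.card_eq_fintype_card, nsmul_eq_mul,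
        mul_one] at h
      rw [Finset.filter_congr fun k _ => hmem k, mul_comm]
      exact_mod_cast h.symm
    obtain ⟨e, he⟩ := hCg _ h0
    rw [← hcl, he, Nat.mul_div_cancel_left _ Nat.card_pos]
    push_cast
    ring
  -- the two-parts
  have key : ((2 ^ (a + x + 4) * (81 * q) : ℕ) : ℂ) =
      ((c * c : ℕ) : ℂ) * (I * (-(s₁ * s₂ : ℤ) : ℂ)) := by
    have hG0 : (Nat.card G : ℂ) ≠ 0 := Char.card_ne_zero
    have hq0 : (q : ℂ) ≠ 0 := Nat.cast_ne_zero.2 hqp.ne_zero
    refine mul_left_cancel₀ (mul_ne_zero hG0 hq0) ?_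
    have hG : (Nat.card G : ℂ) = 9 * 2 ^ a * q := by rw [hcard]; push_cast; ring
    have hss : ((s₁ * s₂ : ℤ) : ℂ) * ((s₁ * s₂ : ℤ) : ℂ) = 1 := by
      rcases hs₁ with h | h <;> rcases hs₂ with h' | h' <;> simp [h, h']
    rw [hS2] at hS
    push_cast [hD] at hIe hss ⊢
    linear_combination (-((s₁ : ℂ) * s₂ * q * (c : ℂ) ^ 2)) * hIe +
      ((s₁ : ℂ) * s₂ * (2 ^ 4 * (9 * q))) * hS -
      (2 ^ 4 * (9 * q) * 2 ^ x * (Nat.card G : ℂ) ^ 2) * hss -
      (2 ^ 4 * (9 * q) * 2 ^ x * (Nat.card G : ℂ)) * hG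
  have hdvd := CharArith.dvd_of_eq_natCast_mul_isIntegral
    (hI.mul (by simpa using isIntegral_algebraMap (R := ℤ) (A := ℂ) (x := -(s₁ * s₂)))) key
  have h2a : 2 ^ a ∣ c := by
    have h1 := Subgroup.index_mul_card (Subgroup.centralizer ({z} : Set G))
    rw [hcard, ← hc] at h1
    refine ((Nat.prime_two.coprime_iff_not_dvd.2 hzi).pow_left a).dvd_of_dvd_mul_left ?_
    exact h1 ▸ Dvd.dvd.mul_right (dvd_mul_left _ _) _
  have h4 : 2 ^ (a + a) ∣ 2 ^ (a + x + 4) * (81 * q) := by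
    rw [pow_add]; exact (mul_dvd_mul h2a h2a).trans hdvd
  have h5 : Nat.Coprime (2 ^ (a + a)) (81 * q) := Nat.Coprime.pow_left _
    ((Nat.prime_two.coprime_iff_not_dvd).2 fun h =>
      (Nat.prime_two.dvd_mul.1 h).elim (by norm_num) hqo)
  have := (Nat.pow_dvd_pow_iff_le_right (by norm_num)).1 (h5.dvd_of_dvd_mul_right h4)
  omega

end Cfsg.Agent.NineTwoPrimes
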