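import Mathlib
import Cfsg.Agent.NineTwoPrimes.Arith
import Cfsg.Agent.NineTwoPrimes.Basic
import Cfsg.Agent.BlockThms.AbelianTI.SmallDegree

/-!
# The prime dividing the order once
-/

set_option autoImplicit false

namespace Cfsg.Agent.NineTwoPrimes

open scoped ComplexConjugate
open Cfsg.Agent Cfsg.Agent.Blocks Cfsg.Agent.BlockThms.AbelianTI
open Cfsg.Agent.BlockThms.OrderP (fiber avg self_mem_fiber exists_orderOf_pow pPartOf_self)

universe u

variable {G : Type u} [Group G] [Fintype G] [IsSimpleGroup G] (hna : ∃ u v : G, u * v ≠ v * u)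
  {q a : ℕ} [hq : Fact q.Prime] (hq5 : 5 ≤ q) (hcard : Nat.card G = 9 * 2 ^ a * q)
include hna hq5 hcard

/-- A Sylow subgroup of prime order with its centraliser and normaliser. -/
theorem exists_sylow_data : ∃ (Q : Sylow q G) (e n : ℕ), Setup Q e ∧
    Nat.card (Q : Subgroup G) = q ∧
    Subgroup.centralizer (Q : Set G) = (Q : Subgroup G) ∧
    (∀ x ∈ (Q : Subgroup G), x ≠ 1 →
      Subgroup.centralizer ({x} : Set G) = Subgroup.centralizer (Q : Set G)) ∧
    2 ≤ e ∧ e ∣ q - 1 ∧ n * e = 9 * 2 ^ a ∧ n % q = 1 ∧ (9 ∣ e → ∃ g : G, orderOf g = 9) := by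
  classical
  have hqp : q.Prime := hq.out
  obtain ⟨Q⟩ : Nonempty (Sylow q G) := inferInstance
  have h3q : 3 ≠ q := by omega
  have h2q : 2 ≠ q := by omega
  have hcard' : Nat.card G = 2 ^ a * 3 ^ 2 * q := by rw [hcard]; ring
  have hC : Subgroup.centralizer (Q : Set G) = (Q : Subgroup G) :=
    BlockThms.sylow_self_centralizing 2 3 q a 2 Nat.prime_two Nat.prime_three h2q h3q hcard' Q
  have hQ : Nat.card (Q : Subgroup G) = q := by
    rw [Q.card_eq_multiplicity, hcard', Nat.factorization_mul (by positivity) hqp.ne_zero,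
      Finsupp.add_apply, Nat.factorization_eq_zero_of_not_dvd fun h =>
        (hqp.dvd_mul.1 h).elim (fun h => h2q ((Nat.prime_dvd_prime_iff_eq hqp Nat.prime_two).1
            (hqp.dvd_of_dvd_pow h)).symm) (fun h => h3q ((Nat.prime_dvd_prime_iff_eq hqp
            Nat.prime_three).1 (hqp.dvd_of_dvd_pow h)).symm),
      hqp.factorization_self, zero_add, pow_one]
  have hstar : ∀ x ∈ (Q : Subgroup G), x ≠ 1 →
      Subgroup.centralizer ({x} : Set G) =
        Subgroup.centralizer (Q : Set G) := by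
    intro x hx hx1
    have hz : Subgroup.zpowers x = (Q : Subgroup G) := by
      refine Subgroup.eq_of_le_of_card_ge ((Subgroup.zpowers_le).2 hx) ?_
      rw [Nat.card_zpowers, hQ]
      have hd : orderOf x ∣ q := by
        have := Subgroup.orderOf_dvd_natCard (Q : Subgroup G) hx
        rwa [hQ] at this
      rcases (Nat.dvd_prime hqp).1 hd with h | h
      · exact absurd (orderOf_eq_one_iff.1 h) hx1
      · exact h.ge
    rw [show (Q : Set G) = (Subgroup.zpowers x : Set G) by rw [hz]; rfl]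
    ext v
    rw [Subgroup.mem_centralizer_singleton_iff, Subgroup.mem_centralizer_iff]
    refine ⟨fun h w hw => ?_, fun h => (h x (Subgroup.mem_zpowers x)).symm⟩
    obtain ⟨i, rfl⟩ := hw
    exact ((show Commute v x from h).zpow_right i).eq.symm
  have hS := setup_of_star hstar
  set e := (Subgroup.centralizer (Q : Set G)).relIndex
    (Subgroup.normalizer (Q : Set G)) with he
  set N := Subgroup.normalizer (Q : Set G) with hN
  have hcN : Nat.card N = e * q := by rw [hN, hS.card_normalizer, hC, hQ]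
  set n := N.index with hn
  have hne : n * e = 9 * 2 ^ a := by
    have h := Subgroup.index_mul_card N
    rw [hcN, hcard, ← hn, ← mul_assoc] at h
    exact Nat.eq_of_mul_eq_mul_right hqp.pos h
  have hmod : n % q = 1 := by
    have h := card_sylow_modEq_one q G
    rw [Q.card_eq_index_normalizer] at h
    have h' : n % q = 1 % q := h
    rw [h', Nat.mod_eq_of_lt hqp.one_lt]
  have hcyc : IsCyclic (Q : Subgroup G) := isCyclic_of_prime_card hQ
  let ψ : N →* MulAut (Q : Subgroup G) := (Q : Subgroup G).normalizerMonoidHom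
  have hker : ψ.ker = (Subgroup.centralizer (Q : Set G)).subgroupOf N :=
    Subgroup.normalizerMonoidHom_ker _
  have hrange : Nat.card ψ.range = e := by
    rw [← Subgroup.index_ker, hker]
    rfl
  have hedvd : e ∣ q - 1 := by
    have h := Subgroup.card_subgroup_dvd_card ψ.range
    rw [hrange, IsCyclic.card_mulAut, hQ, Nat.totient_prime hqp] at h
    exact h
  refine ⟨Q, e, n, hS, hQ, hC, hstar, ?_, hedvd, hne, hmod, fun h9 => ?_⟩
  · by_contra hlt
    have he1 : e = 1 := by have := hS.e_pos; omega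
    obtain ⟨K, hK, hKi⟩ := hS.exists_index he1
    rw [hQ] at hKi
    rcases hK.eq_bot_or_eq_top with h | h
    · rw [h, Subgroup.index_bot, hcard] at hKi
      have : q * 1 < q * (9 * 2 ^ a) := Nat.mul_lt_mul_of_pos_left
        (by have := Nat.one_le_two_pow (n := a); omega) hqp.pos
      rw [mul_one, mul_comm q] at this
      omega
    · rw [h, Subgroup.index_top] at hKi
      exact hqp.ne_one hKi.symm
  · have : IsCyclic (MulAut (Q : Subgroup G)) := by
      rw [(IsCyclic.mulAutMulEquiv (Q : Subgroup G)).isCyclic, hQ]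
      infer_instance
    obtain ⟨c, hc⟩ := IsCyclic.exists_ofOrder_eq_natCard (α := ψ.range)
    obtain ⟨g, hg⟩ := c.2
    obtain ⟨k, hk⟩ : 9 ∣ orderOf g := by
      refine h9.trans ?_
      rw [← hrange, ← hc, ← Subgroup.orderOf_coe, ← hg]
      exact orderOf_map_dvd ψ g
    refine ⟨((g ^ k : N) : G), ?_⟩
    rw [Subgroup.orderOf_coe, orderOf_pow' g (by rintro rfl; simpa using (orderOf_pos g).ne' hk),
      hk, Nat.gcd_mul_left_left, Nat.mul_div_cancel _ (by
        rcases Nat.eq_zero_or_pos k with h | h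
        · exact absurd hk (by rw [h, mul_zero]; exact (orderOf_pos g).ne')
        · exact h)]

omit hna hq5 hcard [IsSimpleGroup G] in
/-- A character of degree prime to `q` is in the principal block. -/
theorem mem_principal_of_not_dvd {Q : Sylow q G} {e : ℕ} (hS : Setup Q e)
    (hQ : Nat.card (Q : Subgroup G) = q)
    (hC : ∀ x ∈ (Q : Subgroup G), x ≠ 1 →
      Subgroup.centralizer ({x} : Set G) = (Q : Subgroup G))
    {M : Ideal Cfsg.AlgInt} (hM : Cfsg.IsPModular q M) {χ : Cfsg.IrrCharacter G}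
    (hχ : ¬ q ∣ Cfsg.charDegree (χ : G → ℂ)) : χ ∈ Cfsg.principalBlock M G := by
  classical
  by_contra hout
  have hzero : ∀ x ∈ (Q : Subgroup G), x ≠ 1 → (χ : G → ℂ) x = 0 := by
    intro x hx hx1
    have h := hS.avg_eq_zero hM hx hout
    have hf : fiber q x = {x} := by
      have hc := hS.card_fiber hx hx1
      rw [hC x hx hx1, hQ] at hc
      obtain ⟨y, hy⟩ := Finset.card_eq_one.1 ((Nat.mul_eq_right hq.out.ne_zero).1 hc)
      have h' := self_mem_fiber (P := Q) hx
      rw [hy, Finset.mem_singleton] at h'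
      rw [hy, h']
    rw [avg, hf, Finset.card_singleton, Finset.sum_singleton, Nat.cast_one, inv_one, one_mul] at h
    exact h
  obtain ⟨i, hi⟩ := hS.exists_sum_eq (Char.IsIrr.isCharacter χ.2)
  rw [Finset.sum_eq_zero fun (y : (Q : Subgroup G)) hy =>
    hzero y y.2 fun h => Finset.ne_of_mem_erase hy (Subtype.ext h), hQ, eq_comm, sub_eq_zero] at hi
  refine hχ ⟨i, ?_⟩
  exact_mod_cast hi.symm

omit hna hq5 hcard hq [IsSimpleGroup G] in
/-- Degrees in the principal block modulo `q`. -/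
theorem degree_mod [Fact q.Prime] {Q : Sylow q G} {e : ℕ} (hS : Setup Q e) {M : Ideal Cfsg.AlgInt}
    {X Y : Finset (Cfsg.IrrCharacter G)} {c : Cfsg.IrrCharacter G → ℤ} {d δ : ℤ}
    {ζ : (↥(Q : Subgroup G) →* ℂˣ) → Cfsg.IrrCharacter G}
    (hE : Exceptional M Q e X Y c d δ ζ) :
    (∀ χ ∈ X, (Nat.card (Q : Subgroup G) : ℤ) ∣ (Cfsg.charDegree (χ : G → ℂ) : ℤ) - c χ) ∧
    (∀ χ ∈ Y, (Nat.card (Q : Subgroup G) : ℤ) ∣
      (Cfsg.charDegree (χ : G → ℂ) : ℤ) - (d + δ * e)) := by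
  classical
  set m := Nat.card (Q : Subgroup G) with hm
  have hself : ∀ y : (Q : Subgroup G), pPartOf q (y : G) = y := fun y =>
    pPartOf_self (exists_orderOf_pow y.2)
  constructor
  · intro χ hχ
    obtain ⟨i, hi⟩ := hS.exists_sum_eq (Char.IsIrr.isCharacter χ.2)
    rw [Finset.sum_congr rfl fun (y : (Q : Subgroup G)) hy =>
      hE.valX χ hχ (y : G) y (Finset.ne_of_mem_erase hy) (hself y), Finset.sum_const,
      Finset.card_erase_of_mem (Finset.mem_univ _), Finset.card_univ, ← Nat.card_eq_fintype_card,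
      nsmul_eq_mul, Nat.cast_sub (Nat.card_pos (α := (Q : Subgroup G)))] at hi
    refine ⟨(i : ℤ) - c χ, ?_⟩
    have : (((Cfsg.charDegree (χ : G → ℂ) : ℤ) - c χ : ℤ) : ℂ) =
        (((m : ℤ) * ((i : ℤ) - c χ) : ℤ) : ℂ) := by
      push_cast at hi ⊢
      linear_combination hi
    exact_mod_cast this
  · intro χ hχ
    obtain ⟨l, hl, rfl⟩ := hE.zeta_surj χ hχ
    obtain ⟨i, hi⟩ := hS.exists_sum_eq (Char.IsIrr.isCharacter (ζ l).2)
    rw [Finset.sum_congr rfl fun (y : (Q : Subgroup G)) hy =>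
      hE.valY l hl (y : G) y (Finset.ne_of_mem_erase hy) (hself y), Finset.sum_add_distrib,
      Finset.sum_const, Finset.card_erase_of_mem (Finset.mem_univ _), Finset.card_univ,
      ← Nat.card_eq_fintype_card, nsmul_eq_mul,
      Nat.cast_sub (Nat.card_pos (α := (Q : Subgroup G))), ← Finset.mul_sum, Finset.sum_comm] at hi
    have e1 : ∀ w ∈ orb Q l,
        ∑ y ∈ (Finset.univ : Finset (Q : Subgroup G)).erase 1, (w y : ℂ) = -1 := by
      intro w hw
      have hw1 : w ≠ 1 := fun e' => one_notMem_orb hl (e' ▸ hw)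
      have h2 := Invol.sum_hom_coe w hw1
      rw [← Finset.add_sum_erase _ _ (Finset.mem_univ (1 : (Q : Subgroup G))), map_one,
        Units.val_one] at h2
      linear_combination h2
    rw [Finset.sum_congr rfl e1, Finset.sum_const, hS.card_orb hl, nsmul_eq_mul] at hi
    refine ⟨(i : ℤ) - d, ?_⟩
    have : (((Cfsg.charDegree (ζ l : G → ℂ) : ℤ) - (d + δ * e) : ℤ) : ℂ) =
        (((m : ℤ) * ((i : ℤ) - d) : ℤ) : ℂ) := by
      push_cast at hi ⊢
      rw [← hm] at hi
      linear_combination hi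
    exact_mod_cast this

omit hq5 hcard hna [IsSimpleGroup G] in
/-- Outside the constant part the values on elements of order prime to `q` are rational. -/
theorem apply_pow_of_degree {Q : Sylow q G} {e : ℕ} (hS : Setup Q e)
    (hQ : Nat.card (Q : Subgroup G) = q)
    (hC : ∀ x ∈ (Q : Subgroup G), x ≠ 1 →
      Subgroup.centralizer ({x} : Set G) = (Q : Subgroup G))
    (heq : e + 1 < q) (hq2 : q ≠ 2) {χ : Cfsg.IrrCharacter G}
    (hχ : ¬ q ∣ Cfsg.charDegree (χ : G → ℂ))
    (hbig : ∀ c : ℤ, (q : ℤ) ∣ (Cfsg.charDegree (χ : G → ℂ) : ℤ) - c → (e : ℤ) + 1 < c ^ 2)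
    (v : G) (hv : ∃ k, orderOf v = 2 ^ k) (k : ℕ) (hk : ¬ 2 ∣ k) :
    (χ : G → ℂ) (v ^ k) = (χ : G → ℂ) v := by
  classical
  obtain ⟨M, hM⟩ := exists_isPModular q hq.out
  obtain ⟨X, Y, c, d, δ, ζ, hE⟩ := hS.exceptional hM (by rw [hQ]; exact heq)
  obtain ⟨hX, -⟩ := degree_mod hS hE
  have hY : ∀ η : Cfsg.IrrCharacter G,
      Cfsg.charDegree (η : G → ℂ) = Cfsg.charDegree (χ : G → ℂ) → η ∈ Y := by
    intro η hη
    refine ((hE.mem η).1 (mem_principal_of_not_dvd hS hQ hC hM (hη ▸ hχ))).resolve_left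
      fun hηX => ?_
    have h := hX η hηX
    rw [hQ, hη] at h
    have h2 := hbig _ h
    have h3 : c η ^ 2 ≤ ∑ ξ ∈ X, c ξ ^ 2 :=
      Finset.single_le_sum (f := fun ξ => c ξ ^ 2) (fun _ _ => sq_nonneg _) hηX
    have hk1 : 1 ≤ Y.card := Finset.card_pos.2
      ⟨χ, ((hE.mem χ).1 (mem_principal_of_not_dvd hS hQ hC hM hχ)).elim (fun hχX => by
        exfalso
        have h := hX χ hχX
        rw [hQ] at h
        have h4 := hbig _ h
        have h5 : c χ ^ 2 ≤ ∑ ξ ∈ X, c ξ ^ 2 :=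
          Finset.single_le_sum (f := fun ξ => c ξ ^ 2) (fun _ _ => sq_nonneg _) hχX
        have := hE.norm
        have hm := hE.card_mul
        rw [hQ] at hm
        have : (1 : ℤ) ≤ Y.card := by
          rcases Y.card.eq_zero_or_pos with h0 | h0
          · rw [h0, zero_mul] at hm
            have := hq.out.one_lt
            omega
          · exact_mod_cast h0
        nlinarith [sq_nonneg (d - δ), sq_nonneg d]) id⟩
    have := hE.norm
    have : (1 : ℤ) ≤ Y.card := by exact_mod_cast hk1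
    nlinarith [sq_nonneg (d - δ), sq_nonneg d]
  obtain ⟨j, hj⟩ := hv
  obtain ⟨σ, hσ⟩ := Char.exists_sigma.{u} (a := j) Nat.prime_two hk
  have hc := Char.IsIrr.isCharacter χ.2
  set η : Cfsg.IrrCharacter G := ⟨fun g => σ ((χ : G → ℂ) g), Char.isIrr_map σ χ.2⟩ with hη
  have hdeg : Cfsg.charDegree (η : G → ℂ) = Cfsg.charDegree (χ : G → ℂ) := charDegree_eq (by
    show σ ((χ : G → ℂ) 1) = _
    rw [← charDegree_cast hc, map_natCast])
  have hreg : ¬ q ∣ orderOf v := fun h => hq2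
    ((Nat.prime_dvd_prime_iff_eq hq.out Nat.prime_two).1 (hq.out.dvd_of_dvd_pow (hj ▸ h)))
  have h := hE.regular η (hY η hdeg) χ (hY χ rfl) v hreg
  have h' := hσ (Subgroup.zpowers v) (by rw [Nat.card_zpowers, hj]) _
    (Char.isCharacter_res _ hc) ⟨v, Subgroup.mem_zpowers v⟩
  exact h'.symm.trans h

omit hq5 hcard hna in
theorem norm_two {d δ k S : ℤ} (hδ : δ = 1 ∨ δ = -1) (hk : k = 2 ∨ k = 3)
    (h : (d - δ) ^ 2 + (k - 1) * d ^ 2 + S = 3) (hS : 1 ≤ S) :
    (d = 0 ∧ S ≤ 2) ∨ (k = 2 ∧ d = δ ∧ S ≤ 2) ∨ (k = 3 ∧ d = δ ∧ S = 1) := by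
  have h1 : -1 ≤ d ∧ d ≤ 1 := by
    constructor <;> rcases hk with rfl | rfl <;> nlinarith [sq_nonneg (d - δ)]
  obtain ⟨h1, h2⟩ := h1
  interval_cases d <;> rcases hδ with rfl | rfl <;> rcases hk with rfl | rfl <;>
    norm_num at h ⊢ <;> omega

omit hq5 hcard hna [IsSimpleGroup G] in
/-- The block of a normalizer of order `2 q` for `q = 5` or `q = 7`. -/
theorem degrees_of_two {Q : Sylow q G} (hS : Setup Q 2) (hQ : Nat.card (Q : Subgroup G) = q)
    (hC : ∀ x ∈ (Q : Subgroup G), x ≠ 1 →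
      Subgroup.centralizer ({x} : Set G) = (Q : Subgroup G))
    (hq57 : q = 5 ∨ q = 7) {χ ψ : Cfsg.IrrCharacter G} (h1 : χ ≠ triv G) :
    (¬ q ∣ Cfsg.charDegree (χ : G → ℂ) →
      Cfsg.charDegree (χ : G → ℂ) % q ∈ [1, q - 1, 2, q - 2]) ∧
    (ψ ≠ triv G → Cfsg.charDegree (χ : G → ℂ) % q ∈ [1, q - 1] →
      Cfsg.charDegree (ψ : G → ℂ) % q ∈ [1, q - 1] → χ = ψ) := by
  classical
  obtain ⟨M, hM⟩ := exists_isPModular q hq.out
  obtain ⟨X, Y, c, d, δ, ζ, hE⟩ := hS.exceptional hM (by rw [hQ]; omega)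
  obtain ⟨hX, hY⟩ := degree_mod hS hE
  rw [hQ] at hX hY
  have hYcard := hE.card_mul
  rw [hQ] at hYcard
  have hdiv0 : ∀ ξ : Cfsg.IrrCharacter G, Cfsg.charDegree (ξ : G → ℂ) % q ∈ [1, q - 1] →
      ¬ q ∣ Cfsg.charDegree (ξ : G → ℂ) := by
    intro ξ hξ hdiv
    rw [Nat.mod_eq_zero_of_dvd hdiv] at hξ
    simp only [List.mem_cons, List.not_mem_nil, or_false] at hξ
    omega
  have hnorm := hE.norm
  have htriv : (1 : ℤ) ≤ ∑ ξ ∈ X, c ξ ^ 2 := by
    have h : c (triv G) ^ 2 ≤ ∑ ξ ∈ X, c ξ ^ 2 :=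
      Finset.single_le_sum (f := fun ξ => c ξ ^ 2) (fun _ _ => sq_nonneg _) hE.triv_mem
    rwa [hE.a_triv, one_pow] at h
  have hδ2 : δ ^ 2 = 1 := by rcases hE.sign with h | h <;> rw [h] <;> norm_num
  have hk : (Y.card : ℤ) = 2 ∨ (Y.card : ℤ) = 3 := by omega
  -- the possible values on the exceptional part
  have hval : (d = 0 ∧ ∑ ξ ∈ X, c ξ ^ 2 ≤ 2) ∨
      (q = 5 ∧ d = δ ∧ ∑ ξ ∈ X, c ξ ^ 2 ≤ 2) := by
    push_cast at hnorm
    rcases norm_two (d := d) hE.sign (k := (Y.card : ℤ)) hk (by linear_combination hnorm) htriv with ⟨h, h'⟩ | ⟨hk', h, h'⟩ |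
      ⟨hk', hdd, hS1⟩
    · exact Or.inl ⟨h, h'⟩
    · exact Or.inr ⟨by omega, h, h'⟩
    · exfalso
      have hXt : X = {triv G} := by
        refine Finset.eq_singleton_iff_unique_mem.2 ⟨hE.triv_mem, fun ξ hξ => ?_⟩
        by_contra hne
        have h := Finset.sum_le_sum_of_subset_of_nonneg (f := fun χ => c χ ^ 2)
          (show ({ξ, triv G} : Finset _) ⊆ X from Finset.insert_subset hξ
            (Finset.singleton_subset_iff.2 hE.triv_mem)) fun _ _ _ => sq_nonneg _
        rw [Finset.sum_pair hne, hE.a_triv, hS1] at h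
        nlinarith [sq_pos_of_ne_zero (hE.a_ne ξ hξ)]
      have hk := hk'
      obtain ⟨η, hη⟩ : Y.Nonempty := Finset.card_pos.1 (by omega)
      have h := hE.relation η hη 1 (by
        rw [orderOf_one, Nat.dvd_one]; exact hq.out.ne_one)
      rw [hXt, Finset.sum_singleton, hE.a_triv, hdd,
        ← charDegree_cast (Char.IsIrr.isCharacter η.2)] at h
      simp only [triv] at h
      have : ((((Y.card : ℤ) * δ - δ) * (Cfsg.charDegree (η : G → ℂ) : ℤ) + 1 : ℤ) : ℂ) = 0 := by
        push_cast; push_cast at h; linear_combination h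
      have h0 : ((Y.card : ℤ) * δ - δ) * (Cfsg.charDegree (η : G → ℂ) : ℤ) + 1 = 0 := by
        exact_mod_cast this
      rw [hk] at h0
      have : 2 * (δ * (Cfsg.charDegree (η : G → ℂ) : ℤ)) + 1 = 0 := by linear_combination h0
      omega
  have hXabs : ∀ ξ ∈ X, c ξ = 1 ∨ c ξ = -1 := by
    intro ξ hξ
    have h3 : c ξ ^ 2 ≤ ∑ χ ∈ X, c χ ^ 2 :=
      Finset.single_le_sum (f := fun ξ => c ξ ^ 2) (fun _ _ => sq_nonneg _) hξ
    have h4 : c ξ ^ 2 ≤ 2 := by rcases hval with h | h <;> linarith [h.2]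
    have h5 := hE.a_ne ξ hξ
    have : -1 ≤ c ξ ∧ c ξ ≤ 1 := ⟨by nlinarith, by nlinarith⟩
    omega
  have hYval : d + δ * (2 : ℕ) = 2 * δ ∨ (q = 5 ∧ d + δ * (2 : ℕ) = 3 * δ) := by
    rcases hval with h | h
    · left; rw [h.1]; push_cast; ring
    · right; exact ⟨h.1, by rw [h.2.1]; push_cast; ring⟩
  constructor
  · intro hχ
    simp only [List.mem_cons, List.not_mem_nil, or_false]
    rcases (hE.mem χ).1 (mem_principal_of_not_dvd hS hQ hC hM hχ) with h | h
    · have h' := hX χ h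
      rcases hq57 with rfl | rfl <;> rcases hXabs χ h with e' | e' <;> rw [e'] at h' <;> omega
    · have h' := hY χ h
      rcases hE.sign with e' | e' <;> rcases hYval with e'' | ⟨rfl, e''⟩ <;>
        rw [e'] at h' e'' <;> rw [e''] at h' <;> rcases hq57 with e''' | e''' <;>
        (try subst e''') <;> omega
  · intro h2 hχ hψ
    have hmemX : ∀ ξ : Cfsg.IrrCharacter G, Cfsg.charDegree (ξ : G → ℂ) % q ∈ [1, q - 1] →
        ξ ∈ X := by
      intro ξ hξ
      refine ((hE.mem ξ).1 (mem_principal_of_not_dvd hS hQ hC hM (hdiv0 ξ hξ))).resolve_right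
        fun h => ?_
      have h' := hY ξ h
      simp only [List.mem_cons, List.not_mem_nil, or_false] at hξ
      rcases hE.sign with e' | e' <;> rcases hYval with e'' | ⟨rfl, e''⟩ <;>
        rw [e'] at h' e'' <;> rw [e''] at h' <;> rcases hq57 with e''' | e''' <;>
        (try subst e''') <;> omega
    by_contra hne
    have h := Finset.sum_le_sum_of_subset_of_nonneg (f := fun χ => c χ ^ 2)
      (show ({χ, ψ, triv G} : Finset _) ⊆ X from Finset.insert_subset (hmemX χ hχ)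
        (Finset.insert_subset (hmemX ψ hψ) (Finset.singleton_subset_iff.2 hE.triv_mem)))
      fun _ _ _ => sq_nonneg _
    rw [Finset.sum_insert (by simp [hne, h1]), Finset.sum_pair h2, hE.a_triv] at h
    rcases hXabs χ (hmemX χ hχ) with e1 | e1 <;> rcases hXabs ψ (hmemX ψ hψ) with e2 | e2 <;>
      rw [e1, e2] at h <;> rcases hval with h' | h' <;> linarith [h'.2]

end Cfsg.Agent.NineTwoPrimes
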