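import Mathlib
import Cfsg.Agent.NineTwoPrimes.SylowQ
import Cfsg.Agent.SmallOrder.Below6000

/-!
# The primes five, seven and seventeen
-/

set_option autoImplicit false

namespace Cfsg.Agent.NineTwoPrimes

open Cfsg.Agent Cfsg.Agent.Blocks Cfsg.Agent.BlockThms.AbelianTI

universe u

theorem nine_two_pow_seven {r : ℕ} (h : 9 * 2 ^ r % 7 = 1) : r % 3 = 2 := by
  rw [← Nat.mod_add_div r 3, pow_add, pow_mul, Nat.mul_mod, Nat.mul_mod (2 ^ (r % 3)),
    Nat.pow_mod (2 ^ 3)] at h
  have := Nat.mod_lt r (show 0 < 3 by norm_num)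
  interval_cases hr : r % 3 <;> first | (norm_num at h; done) | rfl | omega

theorem three_two_pow_seven {r : ℕ} : 3 * 2 ^ r % 7 ≠ 1 := by
  intro h
  rw [← Nat.mod_add_div r 3, pow_add, pow_mul, Nat.mul_mod, Nat.mul_mod (2 ^ (r % 3)),
    Nat.pow_mod (2 ^ 3)] at h
  have := Nat.mod_lt r (show 0 < 3 by norm_num)
  interval_cases hr : r % 3 <;> norm_num at h

theorem nine_two_pow_seventeen {r : ℕ} (h : 9 * 2 ^ r % 17 = 1) : r % 8 = 1 := by
  rw [← Nat.mod_add_div r 8, pow_add, pow_mul, Nat.mul_mod, Nat.mul_mod (2 ^ (r % 8)),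
    Nat.pow_mod (2 ^ 8)] at h
  have := Nat.mod_lt r (show 0 < 8 by norm_num)
  interval_cases hr : r % 8 <;> first | (norm_num at h; done) | rfl | omega

theorem nine_two_pow_five {r : ℕ} (h : 9 * 2 ^ r % 5 = 1) : r % 4 = 2 := by
  rw [← Nat.mod_add_div r 4, pow_add, pow_mul, Nat.mul_mod, Nat.mul_mod (2 ^ (r % 4)),
    Nat.pow_mod (2 ^ 4)] at h
  have := Nat.mod_lt r (show 0 < 4 by norm_num)
  interval_cases hr : r % 4 <;> first | (norm_num at h; done) | rfl | omega

variable {G : Type u} [Group G] [Fintype G] [IsSimpleGroup G] (hna : ∃ u v : G, u * v ≠ v * u)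
  {a : ℕ}
include hna

/-- The normalizer of a Sylow subgroup of order seven. -/
theorem seven_data [Fact (Nat.Prime 7)] (hcard : Nat.card G = 9 * 2 ^ a * 7) :
    ∃ Q : Sylow 7 G, Setup Q 2 ∧ Nat.card (Q : Subgroup G) = 7 ∧
      (∀ x ∈ (Q : Subgroup G), x ≠ 1 →
        Subgroup.centralizer ({x} : Set G) = (Q : Subgroup G)) ∧ a % 3 = 0 := by
  obtain ⟨Q, e, n, hS, hQ, hC, hstar, he2, hed, hne, hmod, -⟩ :=
    exists_sylow_data hna (by norm_num : 5 ≤ 7) hcard
  have he6 : e ≤ 6 := Nat.le_of_dvd (by norm_num) hed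
  have hndvd : n ∣ 9 * 2 ^ a := ⟨e, hne.symm⟩
  obtain ⟨t, s, ht, hs, rfl⟩ := exists_dvd_and_dvd_of_dvd_mul hndvd
  obtain ⟨r, hr, rfl⟩ := (Nat.dvd_prime_pow Nat.prime_two).1 hs
  obtain ⟨w, hw⟩ := Nat.exists_eq_add_of_le hr
  have he' : t * e = 9 * 2 ^ w := by
    rw [hw, pow_add] at hne
    exact Nat.eq_of_mul_eq_mul_left (pow_pos two_pos r) (by linarith)
  have he3 : e = 2 ∧ t = 9 := by
    have : t ∈ Nat.divisors 9 := Nat.mem_divisors.2 ⟨ht, by norm_num⟩
    rw [show Nat.divisors 9 = {1, 3, 9} by decide] at this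
    simp only [Finset.mem_insert, Finset.mem_singleton] at this
    rcases this with rfl | rfl | rfl
    · have : e ≤ 6 := he6
      have := Nat.one_le_two_pow (n := w)
      omega
    · exact absurd hmod three_two_pow_seven
    · have h : e = 2 ^ w := by omega
      subst h
      rcases w with _ | _ | _ | w
      · omega
      · simp
      · simp at hed
      · have : 2 ^ (w + 3) = 8 * 2 ^ w := by rw [pow_add]; ring
        have := Nat.one_le_two_pow (n := w)
        omega
  obtain ⟨rfl, rfl⟩ := he3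
  have hw1 : w = 1 := Nat.pow_right_injective le_rfl (show 2 ^ w = 2 ^ 1 by omega)
  have hr3 := nine_two_pow_seven hmod
  exact ⟨Q, hS, hQ, fun x hx hx1 => (hstar x hx hx1).trans hC, by omega⟩

/-- The order for the prime seven. -/
theorem order_seven [Fact (Nat.Prime 7)] (hcard : Nat.card G = 9 * 2 ^ a * 7) {x : ℕ}
    (hx : x ≤ 3)
    (hbound : (∀ u : G, orderOf u = 3 →
      ¬ 2 ^ 5 ∣ Nat.card (Subgroup.centralizer ({u} : Set G))) → a ≤ x + 4) :
    a = 3 := by
  obtain ⟨Q, hS, hQ, hC, ha⟩ := seven_data hna hcard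
  obtain ⟨χ, h1, hd⟩ := exists_three_or_nine hna (by norm_num : 5 ≤ 7) hcard
  have hd9 : Cfsg.charDegree (χ : G → ℂ) = 9 := by
    refine hd.resolve_left fun h3 => ?_
    have h := (degrees_of_two hS hQ hC (Or.inr rfl) h1 (ψ := χ)).1 (by rw [h3]; norm_num)
    rw [h3] at h
    norm_num at h
  have ha7 : a ≤ x + 4 := hbound fun u hu =>
    centralizer_two_part hna hcard (by norm_num) hd9 (fun v hv k hk =>
      apply_pow_of_degree hS hQ hC (by norm_num) (by norm_num) (by rw [hd9]; norm_num)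
        (fun c hc => by
          rw [hd9] at hc
          push_cast at hc ⊢
          rcases lt_or_ge c 2 with h | h
          · have h5 : c ≤ -5 := by
              by_contra hlt
              interval_cases c <;> omega
            nlinarith
          · nlinarith) v hv k hk) hu
  have hna' : ¬ IsMulCommutative G := fun h => by
    obtain ⟨u, v, huv⟩ := hna
    exact huv (h.is_comm.comm u v)
  have hlt : Nat.card G < 6000 := by
    rw [hcard]
    have : 2 ^ a ≤ 2 ^ 6 := Nat.pow_le_pow_right two_pos (by omega)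
    omega
  have hmem := SmallOrder.card_of_lt_6000 hna' hlt
  rw [hcard] at hmem
  have : a ≤ 6 := by omega
  interval_cases a <;> first | rfl | omega | (norm_num at hmem; done)

/-- The order for the prime seventeen. -/
theorem order_seventeen [Fact (Nat.Prime 17)] (hcard : Nat.card G = 9 * 2 ^ a * 17) {x : ℕ}
    (hx : x ≤ 4)
    (hbound : (∀ u : G, orderOf u = 3 →
      ¬ 2 ^ 5 ∣ Nat.card (Subgroup.centralizer ({u} : Set G))) → a ≤ x + 4) :
    a = 4 := by
  classical
  obtain ⟨Q, e, n, hS, hQ, hC, hstar, he2, hed, hne, hmod, -⟩ :=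
    exists_sylow_data hna (by norm_num : 5 ≤ 17) hcard
  obtain ⟨i, hi, rfl⟩ := (Nat.dvd_prime_pow Nat.prime_two).1 (show e ∣ 2 ^ 4 from hed)
  obtain ⟨χ, h1, hd⟩ := exists_three_or_nine hna (by norm_num : 5 ≤ 17) hcard
  have hd9 : Cfsg.charDegree (χ : G → ℂ) = 9 := by
    refine hd.resolve_left fun h3 => ?_
    obtain ⟨M, hM⟩ := exists_isPModular 17 (Fact.out)
    obtain ⟨h, -⟩ := hS.small_degree hM hstar h1 (by rw [h3, hQ]; norm_num)
      (fun ⟨K, hK, hKne, hQK⟩ => by
        rcases hK.eq_bot_or_eq_top with hb | ht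
        · have := Subgroup.card_le_of_le hQK
          rw [hb, Subgroup.card_bot, hQ] at this
          omega
        · exact hKne ht)
    omega
  have hi3 : i ≤ 3 := by
    obtain ⟨k, hek, hkd, -⟩ := hS.constituents_centralizer (Char.IsIrr.isCharacter χ.2) fun h => by
      have : Nontrivial (Q : Subgroup G) :=
        Finite.one_lt_card_iff_nontrivial.1 (by rw [hQ]; norm_num)
      obtain ⟨y, hy⟩ := exists_ne (1 : (Q : Subgroup G))
      exact hy (Subtype.ext (kernel_eq_one hna h1 (h y y.2)))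
    rw [hd9] at hkd
    by_contra hlt
    have : 2 ^ 4 ≤ 2 ^ i := Nat.pow_le_pow_right two_pos (by omega)
    omega
  have h8 : 2 ^ i ≤ 8 := le_trans (Nat.pow_le_pow_right two_pos hi3) (by norm_num)
  have hC' : ∀ x ∈ (Q : Subgroup G), x ≠ 1 →
      Subgroup.centralizer ({x} : Set G) = (Q : Subgroup G) :=
    fun x hx hx1 => (hstar x hx hx1).trans hC
  have ha8 : a ≤ x + 4 := hbound fun u hu =>
    centralizer_two_part hna hcard (by norm_num) hd9 (fun v hv k hk =>
      apply_pow_of_degree hS hQ hC' (by omega) (by norm_num) (by rw [hd9]; norm_num)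
        (fun c hc => by
          rw [hd9] at hc
          push_cast at hc ⊢
          have h8' : ((2 : ℤ) ^ i) ≤ 8 := by exact_mod_cast h8
          rcases lt_or_ge c 4 with h | h
          · have h5 : c ≤ -5 := by
              by_contra hlt
              interval_cases c <;> omega
            nlinarith
          · nlinarith) v hv k hk) hu
  have hai : i ≤ a := by
    have : 2 ^ i ∣ 9 * 2 ^ a := ⟨n, by rw [mul_comm (2 ^ i) n]; exact hne.symm⟩
    exact (Nat.pow_dvd_pow_iff_le_right (by norm_num)).1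
      (((Nat.prime_two.coprime_iff_not_dvd.2 (by norm_num : ¬ 2 ∣ 9)).pow_left i
        ).dvd_of_dvd_mul_left this)
  obtain ⟨r, rfl⟩ := Nat.exists_eq_add_of_le hai
  have hn : n = 9 * 2 ^ r := by
    rw [pow_add] at hne
    exact Nat.eq_of_mul_eq_mul_right (pow_pos two_pos i) (by linarith)
  subst hn
  have hr := nine_two_pow_seventeen hmod
  have hna' : ¬ IsMulCommutative G := fun h => by
    obtain ⟨u, v, huv⟩ := hna
    exact huv (h.is_comm.comm u v)
  have hr1 : r = 1 := by omega
  subst hr1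
  have hlt : Nat.card G < 6000 := by
    rw [hcard]
    have : 2 ^ (i + 1) ≤ 2 ^ 4 := Nat.pow_le_pow_right two_pos (by omega)
    omega
  have hmem := SmallOrder.card_of_lt_6000 hna' hlt
  rw [hcard] at hmem
  interval_cases i <;> first | rfl | omega | (norm_num at hmem; done)

end Cfsg.Agent.NineTwoPrimes
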