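import Mathlib
import Cfsg.Agent.NineTwoPrimes.SmallPrimes

/-!
# Large primes, and the prime five
-/

set_option autoImplicit false

namespace Cfsg.Agent.NineTwoPrimes

open Cfsg.Agent Cfsg.Agent.Blocks Cfsg.Agent.BlockThms.AbelianTI

universe u

variable {G : Type u} [Group G] [Fintype G] [IsSimpleGroup G] (hna : ∃ u v : G, u * v ≠ v * u)
  {q a : ℕ}
include hna

/-- No large prime next to a power of two divides the order once. -/
theorem false_of_large [hq : Fact q.Prime] (hcard : Nat.card G = 9 * 2 ^ a * q) {x : ℕ}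
    (hx : 5 ≤ x) (h : q = 2 ^ x + 1 ∨ q + 1 = 2 ^ x) : False := by
  classical
  have hX : 32 ≤ 2 ^ x := le_trans (by norm_num) (Nat.pow_le_pow_right two_pos hx)
  have hq5 : 5 ≤ q := by omega
  obtain ⟨Q, e, n, hS, hQ, hC, hstar, he2, hed, hne, hmod, -⟩ := exists_sylow_data hna hq5 hcard
  obtain ⟨t, s, ht, hs, rfl⟩ :=
    exists_dvd_and_dvd_of_dvd_mul (⟨e, hne.symm⟩ : n ∣ 9 * 2 ^ a)
  obtain ⟨r, hr, rfl⟩ := (Nat.dvd_prime_pow Nat.prime_two).1 hs
  have h9 : 9 ∣ e := by
    have ht' : t ∈ Nat.divisors 9 := Nat.mem_divisors.2 ⟨ht, by norm_num⟩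
    rw [show Nat.divisors 9 = {1, 3, 9} by decide] at ht'
    simp only [Finset.mem_insert, Finset.mem_singleton] at ht'
    rcases ht' with rfl | rfl | rfl
    · rw [one_mul] at hne
      have hco : Nat.Coprime (3 ^ 2) (2 ^ r) :=
        Nat.Coprime.pow_left 2 (Nat.prime_three.coprime_iff_not_dvd.2
          fun h3 => absurd (Nat.prime_three.dvd_of_dvd_pow h3) (by norm_num))
      exact hco.dvd_of_dvd_mul_left (by rw [hne]; exact dvd_mul_right (3 ^ 2) (2 ^ a))
    · exact absurd hmod (three_pow_two_pow_ne hx h (Or.inl rfl) r)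
    · exact absurd hmod (three_pow_two_pow_ne hx h (Or.inr rfl) r)
  have h127 := large_of_nine_dvd hx h (h9.trans hed)
  obtain ⟨χ, h1, hd⟩ := exists_three_or_nine hna hq5 hcard
  obtain ⟨M, hM⟩ := exists_isPModular q hq.out
  obtain ⟨hd1, -⟩ := hS.small_degree hM hstar h1
    (by rcases hd with h' | h' <;> rw [h', hQ] <;> omega)
    (fun ⟨K, hK, hKne, hQK⟩ => by
      rcases hK.eq_bot_or_eq_top with hb | ht
      · have := Subgroup.card_le_of_le hQK
        rw [hb, Subgroup.card_bot, hQ] at this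
        omega
      · exact hKne ht)
  omega

/-- A character with all values fixed by the embeddings bounds the exponent of two. -/
theorem two_exp_le (hcard : Nat.card G = 9 * 2 ^ a * q) (hq2 : ¬ 2 ∣ q)
    {χ : Cfsg.IrrCharacter G} (h1 : χ ≠ triv G) (hfix : IsFixed (χ : G → ℂ)) :
    a ≤ Char.schurSum 2 (Cfsg.charDegree (χ : G → ℂ)) := by
  have : Fact (Nat.Prime 2) := ⟨Nat.prime_two⟩
  obtain ⟨T, hT⟩ := Sylow.exists_subgroup_card_pow_prime (G := G) 2 (n := a)
    (hcard ▸ Dvd.dvd.mul_right (dvd_mul_left _ _) q)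
  have hc := Char.IsIrr.isCharacter χ.2
  obtain ⟨c, hc1, hc2⟩ := Char.exists_index_ker_le Nat.prime_two (Cfsg.charDegree (χ : G → ℂ))
    (P := T) hT _ (Char.isCharacter_res T hc) (by rw [charDegree_cast hc]; rfl) (fun k hk g => by
      obtain ⟨σ, hσ⟩ := Char.exists_sigma.{u} (a := a) Nat.prime_two hk
      have h := hσ T (hT ▸ dvd_rfl) _ (Char.isCharacter_res _ hc) g
      rw [hfix σ] at h
      exact h.symm)
  have hbot : Char.kerSubgroup (Char.isCharacter_res T hc) = ⊥ :=
    (Subgroup.eq_bot_iff_forall _).2 fun g hg => Subtype.ext (kernel_eq_one hna h1 hg)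
  rw [hbot, Subgroup.index_bot, hT] at hc1
  have := Nat.pow_right_injective le_rfl hc1
  omega

/-- The prime five with two rational characters of degree four. -/
theorem false_of_five [Fact (Nat.Prime 5)] (hcard : Nat.card G = 9 * 2 ^ a * 5)
    {χ ψ : Cfsg.IrrCharacter G} (hχ : Cfsg.charDegree (χ : G → ℂ) = 4)
    (hψ : Cfsg.charDegree (ψ : G → ℂ) = 4) (hne : χ ≠ ψ) (hfix : IsFixed (χ : G → ℂ)) :
    False := by
  have hnt : ∀ ξ : Cfsg.IrrCharacter G, Cfsg.charDegree (ξ : G → ℂ) = 4 → ξ ≠ triv G := by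
    intro ξ h e
    rw [e, charDegree_eq (n := 1) (by simp [triv])] at h
    omega
  obtain ⟨Q, e, n, hS, hQ, hC, hstar, he2, hed, hne', hmod, -⟩ :=
    exists_sylow_data hna (le_refl 5) hcard
  have he4 : e ∣ 2 ^ 2 := hed
  obtain ⟨i, hi, rfl⟩ := (Nat.dvd_prime_pow Nat.prime_two).1 he4
  interval_cases i
  · omega
  · exact hne ((degrees_of_two hS hQ (fun x hx hx1 => (hstar x hx hx1).trans hC) (Or.inl rfl)
      (hnt χ hχ)).2 (hnt ψ hψ) (by rw [hχ]; norm_num) (by rw [hψ]; norm_num))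
  have ha7 := two_exp_le hna hcard (by norm_num) (hnt χ hχ) hfix
  rw [hχ, show Char.schurSum 2 4 = 7 by decide] at ha7
  have ha2 : 2 ≤ a := by
    by_contra h
    interval_cases a <;> omega
  obtain ⟨r, rfl⟩ := Nat.exists_eq_add_of_le ha2
  have hn : n = 9 * 2 ^ r := by
    rw [pow_add] at hne'
    omega
  subst hn
  have hr := nine_two_pow_five hmod
  obtain rfl : r = 2 := by omega
  have hna' : ¬ IsMulCommutative G := fun h => by
    obtain ⟨u, v, huv⟩ := hna
    exact huv (h.is_comm.comm u v)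
  have hmem := SmallOrder.card_of_lt_6000 hna' (by rw [hcard]; norm_num)
  rw [hcard] at hmem
  norm_num at hmem

end Cfsg.Agent.NineTwoPrimes
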