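import Mathlib
import Cfsg.Agent.NineTwoPrimes.Large
import Cfsg.Agent.S1011
import Cfsg.Agent.S1020

/-!
# A Sylow subgroup of order nine inverted by its normaliser
-/

set_option autoImplicit false

namespace Cfsg.Agent.NineTwoPrimes

open scoped ComplexConjugate
open Cfsg.Agent Cfsg.Agent.Blocks Cfsg.Agent.BlockThms.AbelianTI
open Cfsg.Agent.BlockThms.OrderP (fiber avg lift self_mem_fiber exists_orderOf_pow pPartOf_self)

universe u

variable {G : Type u} [Group G] [Fintype G] [IsSimpleGroup G] (hna : ∃ u v : G, u * v ≠ v * u)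
  {q a b : ℕ}
include hna

/-- The exponent of the large prime is positive. -/
theorem exp_pos (hcard : Nat.card G = 9 * 2 ^ a * q ^ b) : 0 < b := by
  rcases Nat.eq_zero_or_pos b with rfl | hb
  · exfalso
    have hsol : Group.IsSolvable G := Char.isSolvable_of_card_eq 3 2 Nat.prime_three Nat.prime_two
      _ G rfl ⟨2, a, by rw [hcard, pow_zero, mul_one]; norm_num⟩
    obtain ⟨u, v, huv⟩ := hna
    exact huv ((IsSimpleGroup.comm_iff_isSolvable.2 hsol) u v)
  · exact hb

omit [IsSimpleGroup G] hna in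
theorem dvd_two_q_of_not_three_dvd {n : ℕ} (hn : n ∣ 9 * 2 ^ a * q ^ b) (h3 : ¬ 3 ∣ n) :
    n ∣ 2 ^ a * q ^ b :=
  Nat.Coprime.dvd_of_dvd_mul_left
    (show n.Coprime 9 from ((Nat.prime_three.coprime_iff_not_dvd.2 h3).symm.pow_right 2))
    (by rwa [mul_assoc] at hn)

omit hna in
theorem degree_eq_one_of_triv : Cfsg.charDegree ((triv G : Cfsg.IrrCharacter G) : G → ℂ) = 1 :=
  charDegree_eq (by simp [triv])

/-- The group in the inverted case. -/
theorem card_of_inversion {R : Sylow 3 G} (hS : Setup R 2) (hR : Nat.card (R : Subgroup G) = 9)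
    (hq : q.Prime) (hq5 : 5 ≤ q) (hcard : Nat.card G = 9 * 2 ^ a * q ^ b) :
    Nat.card G = 504 ∨ Nat.card G = 2448 := by
  classical
  have : Fact q.Prime := ⟨hq⟩
  obtain ⟨M, hM⟩ := exists_isPModular 3 Nat.prime_three
  obtain ⟨X, Y, c, d, δ, ζ, hE⟩ := hS.exceptional hM (by rw [hR]; norm_num)
  have hY4 : Y.card = 4 := by
    have := hE.card_mul
    rw [hR] at this
    omega
  have htriv : (1 : ℤ) ≤ ∑ χ ∈ X, c χ ^ 2 := by
    have h : c (triv G) ^ 2 ≤ ∑ χ ∈ X, c χ ^ 2 :=
      Finset.single_le_sum (f := fun χ => c χ ^ 2) (fun _ _ => sq_nonneg _) hE.triv_mem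
    rwa [hE.a_triv, one_pow] at h
  have hnorm := hE.norm
  rw [hY4] at hnorm
  push_cast at hnorm
  have hd0 : d = 0 := by
    by_contra hd
    nlinarith [sq_pos_of_ne_zero hd, sq_nonneg (d - δ)]
  subst hd0
  have hδ2 : δ ^ 2 = 1 := by rcases hE.sign with h | h <;> rw [h] <;> norm_num
  have hsum2 : ∑ χ ∈ X, c χ ^ 2 = 2 := by nlinarith
  rw [← Finset.add_sum_erase _ _ hE.triv_mem, hE.a_triv, one_pow] at hsum2
  -- the further constant character
  obtain ⟨θ, hθX⟩ : (X.erase (triv G)).Nonempty := by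
    rw [Finset.nonempty_iff_ne_empty]
    intro h
    rw [h, Finset.sum_empty] at hsum2
    omega
  have hθ1 : θ ≠ triv G := Finset.ne_of_mem_erase hθX
  have hθ : θ ∈ X := Finset.mem_of_mem_erase hθX
  have hXeq : X.erase (triv G) = {θ} := by
    refine Finset.eq_singleton_iff_unique_mem.2 ⟨hθX, fun ξ hξ => ?_⟩
    by_contra hne
    have h := Finset.sum_le_sum_of_subset_of_nonneg (f := fun χ => c χ ^ 2)
      (show ({ξ, θ} : Finset _) ⊆ X.erase (triv G) from Finset.insert_subset hξ
        (Finset.singleton_subset_iff.2 hθX)) fun _ _ _ => sq_nonneg _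
    rw [Finset.sum_pair hne] at h
    nlinarith [sq_pos_of_ne_zero (hE.a_ne ξ (Finset.mem_of_mem_erase hξ)),
      sq_pos_of_ne_zero (hE.a_ne θ hθ)]
  rw [hXeq, Finset.sum_singleton] at hsum2
  have hcθ : c θ = 1 ∨ c θ = -1 := sq_eq_one_iff.1 (by linarith)
  -- a member of the exceptional part
  obtain ⟨η, hηY⟩ : Y.Nonempty := Finset.card_pos.1 (by omega)
  obtain ⟨l, hl, rfl⟩ := hE.zeta_surj η hηY
  set η := ζ l with hη
  have hη1 : η ≠ triv G := fun h => Finset.disjoint_left.1 hE.disj hE.triv_mem (h ▸ hηY)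
  set F : G → ℂ := lift R (theta R l) with hF
  have hadm := adm_theta R l
  have hexp : ∀ f : Cfsg.IrrCharacter G → ℂ,
      ∑ χ : Cfsg.IrrCharacter G, Cfsg.classInner F (χ : G → ℂ) * f χ =
        f (triv G) + (c θ : ℂ) * f θ - (δ : ℂ) * f η := by
    intro f
    rw [hF, hE.expansion l hl f, ← Finset.add_sum_erase _ _ hE.triv_mem, hXeq,
      Finset.sum_singleton, hE.a_triv]
    push_cast
    ring
  have hFval : ∀ g, F g =
      1 + (c θ : ℂ) * (θ : G → ℂ) g + ((-δ : ℤ) : ℂ) * (η : G → ℂ) g := by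
    intro g
    have h := hexp fun χ => (χ : G → ℂ) g
    rw [Invol.apply_eq_sum (F := F) (hS.lift_class hadm) g] at h
    rw [h, show ((triv G : Cfsg.IrrCharacter G) : G → ℂ) g = 1 from rfl]
    push_cast
    ring
  have hreg : ∀ g, ¬ 3 ∣ orderOf g → F g = 0 := fun g hg => hS.lift_regular hadm hg
  -- degrees
  set n := Cfsg.charDegree (θ : G → ℂ) with hn
  set m := Cfsg.charDegree (η : G → ℂ) with hm
  obtain ⟨hdX, hdY⟩ := degree_mod hS hE
  have hn9 := hdX θ hθ
  have hm9 := hdY η hηY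
  rw [hR, ← hn] at hn9
  rw [hR, ← hm] at hm9
  push_cast at hn9 hm9
  have hrel : 1 + c θ * (n : ℤ) - δ * (m : ℤ) = 0 := by
    have h := hFval 1
    rw [hreg 1 (by rw [orderOf_one]; norm_num), ← charDegree_cast (Char.IsIrr.isCharacter θ.2),
      ← charDegree_cast (Char.IsIrr.isCharacter η.2), ← hn, ← hm] at h
    have h' : (((1 + c θ * (n : ℤ) - δ * (m : ℤ)) : ℤ) : ℂ) = 0 := by
      push_cast at h ⊢
      linear_combination -h
    exact_mod_cast h'
  have hn1 : 1 < n := by
    have h0 := charDegree_pos θ.2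
    rcases Nat.lt_or_ge 1 n with h | h
    · exact h
    · exact absurd (eq_triv_of_degree_one hna (by omega)) hθ1
  have hm1 : 1 < m := by
    have h0 := charDegree_pos η.2
    rcases Nat.lt_or_ge 1 m with h | h
    · exact h
    · exact absurd (eq_triv_of_degree_one hna (by omega)) hη1
  have hn3 : ¬ 3 ∣ n := fun h => by rcases hcθ with e | e <;> rw [e] at hn9 <;> omega
  have hm3 : ¬ 3 ∣ m := fun h => by rcases hE.sign with e | e <;> rw [e] at hm9 <;> omega
  have hnm : n = m + 1 ∨ m = n + 1 := by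
    rcases hcθ with e | e <;> rcases hE.sign with e' | e' <;> rw [e, e'] at hrel <;> omega
  obtain ⟨x, hx, hcases⟩ := consecutive hq hq5 hn1 hm1
    (dvd_two_q_of_not_three_dvd (hcard ▸ CharArith.charDegree_dvd_card θ.2) hn3)
    (dvd_two_q_of_not_three_dvd (hcard ▸ CharArith.charDegree_dvd_card η.2) hm3) hnm
  have hnle : n ≤ q + 1 := by rcases hcases with ⟨h, -⟩ | ⟨h, -⟩ <;> rw [h] <;> omega
  -- rationality
  have hfix : IsFixed (θ : G → ℂ) := by
    intro σ
    set θ' : Cfsg.IrrCharacter G := ⟨fun g => σ ((θ : G → ℂ) g), Char.isIrr_map σ θ.2⟩ with hθ'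
    suffices θ' = θ from fun g => congrFun (congrArg Subtype.val this) g
    by_contra hne
    have hdeg : Cfsg.charDegree (θ' : G → ℂ) = n := charDegree_eq (by
      show σ ((θ : G → ℂ) 1) = _
      rw [← charDegree_cast (Char.IsIrr.isCharacter θ.2), map_natCast])
    have hsel : ∀ ξ : Cfsg.IrrCharacter G, Cfsg.classInner F (ξ : G → ℂ) =
        (if triv G = ξ then 1 else 0) + (c θ : ℂ) * (if θ = ξ then 1 else 0) -
          (δ : ℂ) * (if η = ξ then 1 else 0) := fun ξ => by
      rw [← hexp fun χ => if χ = ξ then 1 else 0]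
      simp
    have h1 := hsel θ'
    have h2 := hsel θ
    rw [if_neg (fun h => by rw [← h, degree_eq_one_of_triv] at hdeg; omega),
      if_neg (fun h => hne h.symm), if_neg (fun h => by rw [← h, ← hm] at hdeg; omega)] at h1
    rw [if_neg hθ1.symm, if_pos rfl, if_neg (fun h => by rw [h, ← hn] at hm; omega)] at h2
    have hθB : θ ∈ Cfsg.principalBlock M G := (hE.mem θ).2 (Or.inl hθ)
    have hsum : ∑ y : (R : Subgroup G), theta R l y * conj (avg 3 (θ' : G → ℂ) y) =
        ∑ y : (R : Subgroup G), theta R l y * conj (avg 3 (θ : G → ℂ) y) := by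
      refine Finset.sum_congr rfl fun y _ => ?_
      by_cases hy : (y : G) = 1
      · rw [hy, hadm.one, zero_mul, zero_mul]
      congr 2
      have hav : avg 3 (θ' : G → ℂ) (y : G) = σ (avg 3 (θ : G → ℂ) (y : G)) := by
        simp only [avg, hθ', map_mul, map_inv₀, map_natCast, map_sum]
      have hval : avg 3 (θ : G → ℂ) (y : G) = (c θ : ℂ) := by
        rw [← hS.apply_eq_avg hM y.2 hy hθB]
        exact hE.valX θ hθ (y : G) y (fun h => hy (congrArg Subtype.val h))
          (pPartOf_self (exists_orderOf_pow y.2))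
      rw [hav, hval, map_intCast]
    rw [← hS.classInner_lift hadm (Char.isClassFunction_of_isIrr θ'.2),
      ← hS.classInner_lift hadm (Char.isClassFunction_of_isIrr θ.2), ← hF, h1, h2, hR] at hsum
    norm_num at hsum
    rcases hcθ with e | e <;> rw [e] at hsum <;> norm_num at hsum
  have hb : b = 1 := le_antisymm (exp_le_one hna hq5 hcard hθ1 (hn ▸ hnle) hfix) (exp_pos hna hcard)
  subst hb
  rw [pow_one] at hcard
  rcases small_cases hq hq5 hx with ⟨rfl, rfl⟩ | ⟨rfl, rfl⟩ | ⟨rfl, rfl⟩ | hx5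
  · exfalso
    rcases hcases with ⟨h, h'⟩ | ⟨h, h'⟩ <;> rcases hcθ with e | e <;> rw [h, e] at hn9 <;>
      norm_num at hn9
  · left
    have h8 : n = 2 ^ 3 ∧ m = 7 := by
      rcases hcases with ⟨h, h'⟩ | h
      · rcases hcθ with e | e <;> rw [h, e] at hn9 <;> norm_num at hn9
      · exact h
    rw [hcard, order_seven hna hcard (le_refl 3) fun hC => exp_two_bound hna hq5 hcard hcθ
      (show (-δ : ℤ) = 1 ∨ -δ = -1 by rcases hE.sign with e | e <;> rw [e] <;> norm_num)
      (hn ▸ h8.1) hθ1 (hm ▸ h8.2) hFval hreg hC]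
    norm_num
  · right
    have h16 : n = 17 ∧ m = 2 ^ 4 := by
      rcases hcases with h | ⟨h, h'⟩
      · exact h
      · rcases hcθ with e | e <;> rw [h, e] at hn9 <;> norm_num at hn9
    rw [hcard, order_seventeen hna hcard (le_refl 4) fun hC => exp_two_bound hna hq5 hcard
      (show (-δ : ℤ) = 1 ∨ -δ = -1 by rcases hE.sign with e | e <;> rw [e] <;> norm_num) hcθ
      (hm ▸ h16.2) hη1 (hn ▸ h16.1) (fun g => by rw [hFval g]; ring) hreg hC]
    norm_num
  · exact (false_of_large hna hcard hx5 hx).elim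

omit hna in
/-- The two groups. -/
theorem iso_of_card (h : Nat.card G = 504 ∨ Nat.card G = 2448) :
    (∃ (F : Type) (_ : Field F) (_ : Fintype F), Fintype.card F = 8 ∧
        Nonempty (G ≃* Matrix.ProjectiveSpecialLinearGroup (Fin 2) F)) ∨
      Nonempty (G ≃* Matrix.ProjectiveSpecialLinearGroup (Fin 2) (ZMod 17)) := by
  rcases h with h | h
  · left
    have hp : Fact (Nat.Prime 2) := ⟨Nat.prime_two⟩
    let inst : Fintype (GaloisField 2 3) := Fintype.ofFinite _
    have hF : Fintype.card (GaloisField 2 3) = 8 := by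
      rw [← Nat.card_eq_fintype_card, GaloisField.card 2 3 (by norm_num)]
      norm_num
    exact ⟨GaloisField 2 3, inferInstance, inst, hF, S1011.result h hF⟩
  · right
    have hp : Fact (Nat.Prime 17) := ⟨by norm_num⟩
    exact S1020.result h (F := ZMod 17) (ZMod.card 17)

end Cfsg.Agent.NineTwoPrimes
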