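import Mathlib
import Cfsg.Agent.Fusion.Transfer
import Cfsg.Agent.BlockThms.AbelianTI.Lift

/-!
# The normaliser of a Sylow subgroup of order nine with at least three classes
-/

set_option autoImplicit false

namespace Cfsg.Agent.NineTwoPrimes

open Cfsg.Agent Cfsg.Agent.BlockThms.AbelianTI
open scoped commutatorElement

universe u

variable {G : Type u} [Group G]

/-- The normaliser acts on `R = ⟨a⟩ × ⟨b⟩` through the four sign changes. -/
structure Four (R : Sylow 3 G) (a b : G) : Prop where
  comm : IsMulCommutative R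
  amem : a ∈ (R : Subgroup G)
  bmem : b ∈ (R : Subgroup G)
  ord_a : orderOf a = 3
  ord_b : orderOf b = 3
  indep : a ∉ Subgroup.zpowers b
  span : ∀ x ∈ (R : Subgroup G), ∃ i j : ℕ, i < 3 ∧ j < 3 ∧ x = a ^ i * b ^ j
  act_a : ∀ n ∈ Subgroup.normalizer (R : Set G), n * a * n⁻¹ = a ∨ n * a * n⁻¹ = a⁻¹
  act_b : ∀ n ∈ Subgroup.normalizer (R : Set G), n * b * n⁻¹ = b ∨ n * b * n⁻¹ = b⁻¹
  flip_a : ∃ n ∈ Subgroup.normalizer (R : Set G), n * a * n⁻¹ = a⁻¹ ∧ n * b * n⁻¹ = b
  flip_b : ∃ n ∈ Subgroup.normalizer (R : Set G), n * a * n⁻¹ = a ∧ n * b * n⁻¹ = b⁻¹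

variable [Finite G] {R : Sylow 3 G}

theorem comm_of_card_nine (hR : Nat.card (R : Subgroup G) = 9) : IsMulCommutative R :=
  ⟨⟨IsPGroup.commutative_of_card_eq_prime_sq (p := 3) (by rw [hR]; norm_num)⟩⟩

/-- The action of the normaliser. -/
noncomputable def act (R : Sylow 3 G) :
    Subgroup.normalizer (R : Set G) →* MulAut (R : Subgroup G) :=
  (R : Subgroup G).normalizerMonoidHom

theorem coe_act (n : Subgroup.normalizer (R : Set G)) (x : (R : Subgroup G)) :
    ((act R n x : (R : Subgroup G)) : G) = (n : G) * (x : G) * (n : G)⁻¹ := rfl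

theorem act_eq_one_iff (n : Subgroup.normalizer (R : Set G)) :
    act R n = 1 ↔ (n : G) ∈ Subgroup.centralizer (R : Set G) := by
  rw [← MonoidHom.mem_ker, act, Subgroup.normalizerMonoidHom_ker]
  exact Subgroup.mem_subgroupOf

/-- A nontrivial simple group: no proper subgroup receives all the commutators with the
normaliser. -/
theorem exists_commutator_not_mem [IsSimpleGroup G] (hna : ∃ u v : G, u * v ≠ v * u)
    (hR : Nat.card (R : Subgroup G) = 9) {B : Subgroup G}
    (hBR : B ≤ (R : Subgroup G)) (hB : B ≠ (R : Subgroup G)) :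
    ∃ r ∈ (R : Subgroup G), ∃ n ∈ Subgroup.normalizer (R : Set G),
      r * (n * r⁻¹ * n⁻¹) ∉ B := by
  by_contra h
  push Not at h
  refine hB (le_antisymm hBR ?_)
  have hcomm := comm_of_card_nine hR
  have htop : commutator G = ⊤ := by
    rcases ((inferInstance : (commutator G).Normal)).eq_bot_or_eq_top with h1 | h1
    · obtain ⟨u, v, huv⟩ := hna
      exfalso
      have h2 : ⁅u, v⁆ ∈ (⊥ : Subgroup G) :=
        h1 ▸ Subgroup.commutator_mem_commutator (Subgroup.mem_top u) (Subgroup.mem_top v)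
      exact huv (commutatorElement_eq_one_iff_mul_comm.1 (Subgroup.mem_bot.1 h2))
    · exact h1
  have h1 : (R : Subgroup G) ≤ ⁅(R : Subgroup G), Subgroup.normalizer (R : Set G)⁆ := by
    refine le_trans ?_ (Fusion.focalSubgroup_le_commutator_right_of_controls R _
      fun x hx g hg => Fusion.exists_mem_normalizer_conj_of_isMulCommutative R hcomm hx g hg)
    rw [← Subgroup.commutator_inf_eq_focalSubgroup R, htop, top_inf_eq]
  refine h1.trans (Subgroup.commutator_le.2 fun r hr n hn => ?_)
  rw [commutatorElement_def, show r * n * r⁻¹ * n⁻¹ = r * (n * r⁻¹ * n⁻¹) by group]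
  exact h r hr n hn

/-- A subgroup cut out by an automorphism. -/
def eqLocus (g : MulAut (R : Subgroup G)) : Subgroup (R : Subgroup G) :=
  g.toMonoidHom.eqLocus (MonoidHom.id _)

section Auto

variable (hR : Nat.card (R : Subgroup G) = 9)
include hR

theorem mul_comm_R (x y : (R : Subgroup G)) : x * y = y * x :=
  (comm_of_card_nine hR).is_comm.comm x y

theorem orderOf_R {x : (R : Subgroup G)} (hx : x ≠ 1) : x ^ 2 ≠ 1 := by
  intro h
  have h2 := orderOf_dvd_of_pow_eq_one h
  have h9 : orderOf x ∣ 9 := hR ▸ orderOf_dvd_natCard x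
  have h1 : orderOf x ∣ Nat.gcd 2 9 := Nat.dvd_gcd h2 h9
  norm_num at h1
  exact hx h1

theorem mem_eqLocus {g : MulAut (R : Subgroup G)} {x : (R : Subgroup G)} :
    x ∈ eqLocus g ↔ g x = x := Iff.rfl

/-- The inverted elements. -/
def invLocus (g : MulAut (R : Subgroup G)) : Subgroup (R : Subgroup G) where
  carrier := {x | g x = x⁻¹}
  one_mem' := by simp
  mul_mem' := fun {x y} hx hy => by
    simp only [Set.mem_setOf_eq] at hx hy ⊢
    rw [map_mul, hx, hy, mul_inv_rev, mul_comm_R hR]
  inv_mem' := fun {x} hx => by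
    simp only [Set.mem_setOf_eq] at hx ⊢
    rw [map_inv, hx]

theorem mem_invLocus {g : MulAut (R : Subgroup G)} {x : (R : Subgroup G)} :
    x ∈ invLocus hR g ↔ g x = x⁻¹ := Iff.rfl

theorem card_eq_three {H : Subgroup (R : Subgroup G)} (h1 : H ≠ ⊥) (h2 : H ≠ ⊤) :
    Nat.card H = 3 := by
  have hd : Nat.card H ∣ 3 ^ 2 := by
    rw [show (3 : ℕ) ^ 2 = 9 by norm_num, ← hR]; exact Subgroup.card_subgroup_dvd_card H
  obtain ⟨i, hi, hi'⟩ := (Nat.dvd_prime_pow Nat.prime_three).1 hd
  interval_cases i
  · exact absurd (H.card_eq_one.1 (by rw [hi']; rfl)) h1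
  · rw [hi', pow_one]
  · exact absurd (Subgroup.eq_top_of_card_eq H (by rw [hi', hR]; rfl)) h2

/-- In a subgroup of order three invariant under `h`, `h` fixes or inverts. -/
theorem fix_or_inv {H : Subgroup (R : Subgroup G)} (hH : Nat.card H = 3)
    {h : MulAut (R : Subgroup G)} {x : (R : Subgroup G)} (hx : x ∈ H) (hx1 : x ≠ 1)
    (hhx : h x ∈ H) : h x = x ∨ h x = x⁻¹ := by
  classical
  have ho : orderOf x = 3 := by
    have hd : orderOf x ∣ 3 := by
      have h' := Subgroup.orderOf_dvd_natCard H hx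
      rwa [hH] at h'
    rcases (Nat.dvd_prime Nat.prime_three).1 hd with e | e
    · exact absurd (orderOf_eq_one_iff.1 e) hx1
    · exact e
  have hz : Subgroup.zpowers x = H :=
    Subgroup.eq_of_le_of_card_ge ((Subgroup.zpowers_le).2 hx) (by rw [Nat.card_zpowers, ho, hH])
  rw [← hz, (isOfFinOrder_of_finite x).mem_zpowers_iff_mem_range_orderOf, ho,
    Finset.mem_image] at hhx
  obtain ⟨i, hi, hi'⟩ := hhx
  rw [Finset.mem_range] at hi
  interval_cases i
  · rw [pow_zero] at hi'
    exact absurd ((EmbeddingLike.map_eq_one_iff).1 hi'.symm) hx1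
  · left; rw [← hi', pow_one]
  · right
    have h' := pow_orderOf_eq_one x
    rw [ho] at h'
    rw [← hi', eq_inv_iff_mul_eq_one, ← pow_succ]
    exact h'

/-- An element inverted by an automorphism of order two. -/
theorem exists_inverted {g : MulAut (R : Subgroup G)} (hg : g ^ 2 = 1) (hg1 : g ≠ 1) :
    ∃ y : (R : Subgroup G), y ≠ 1 ∧ g y = y⁻¹ := by
  obtain ⟨r, hr⟩ : ∃ r, g r ≠ r := by
    by_contra h
    push Not at h
    exact hg1 (MulEquiv.ext h)
  refine ⟨g r * r⁻¹, fun h => hr (mul_inv_eq_one.1 h), ?_⟩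
  have h2 : g (g r) = r := by
    rw [← MulAut.mul_apply, ← sq, hg]; rfl
  rw [map_mul, map_inv, h2, mul_inv_rev, inv_inv]

/-- An automorphism whose square fixes a point and is an involution does not exist. -/
theorem square_semiregular {h : MulAut (R : Subgroup G)} (h4 : h ^ 4 = 1) (h2 : h ^ 2 ≠ 1)
    {x : (R : Subgroup G)} (hx : x ≠ 1) : (h ^ 2) x ≠ x := by
  intro hfix
  set g := h ^ 2 with hg
  have hg2 : g ^ 2 = 1 := by rw [hg, ← pow_mul]; exact h4
  obtain ⟨y, hy1, hy⟩ := exists_inverted hR hg2 h2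
  have hcomm : ∀ z, g (h z) = h (g z) := fun z => by
    rw [← MulAut.mul_apply, ← MulAut.mul_apply, hg, ← pow_succ, ← pow_succ']
  have hE : Nat.card (invLocus hR g) = 3 := by
    refine card_eq_three hR (fun e => hy1 ?_) (fun e => ?_)
    · rw [← Subgroup.mem_bot, ← e, mem_invLocus hR]; exact hy
    · have h' : x ∈ invLocus hR g := e ▸ Subgroup.mem_top x
      rw [mem_invLocus hR, hfix] at h'
      exact orderOf_R hR hx (by rw [sq]; exact mul_eq_one_iff_eq_inv.2 h')
  have hhy : h y ∈ invLocus hR g := by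
    rw [mem_invLocus hR, hcomm, hy, map_inv]
  have hgy : g y = y := by
    rw [hg, sq, MulAut.mul_apply]
    rcases fix_or_inv hR hE (h := h) ((mem_invLocus hR).2 hy) hy1 hhy with e | e
    · rw [e, e]
    · rw [e, map_inv, e, inv_inv]
  rw [hy] at hgy
  exact orderOf_R hR hy1 (by rw [sq]; exact mul_eq_one_iff_eq_inv.2 hgy.symm)

/-- An automorphism of order prime to `2` and `3` is trivial. -/
theorem eq_one_of_prime_order {g : MulAut (R : Subgroup G)} {r : ℕ} (hr : r.Prime) (hr5 : 5 ≤ r)
    (hg : g ^ r = 1) : g = 1 := by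
  classical
  have := Fact.mk hr
  have : Fintype (R : Subgroup G) := Fintype.ofFinite _
  by_contra hne
  have hne' : eqLocus g ≠ ⊤ := fun e => hne (MulEquiv.ext fun x => by
    have h : x ∈ eqLocus g := e ▸ Subgroup.mem_top x
    exact (mem_eqLocus hR).1 h)
  have hP : IsPGroup r (Subgroup.zpowers g) := by
    refine IsPGroup.of_card (n := 1) ?_
    rw [Nat.card_zpowers, pow_one]
    rcases (Nat.dvd_prime hr).1 (orderOf_dvd_of_pow_eq_one hg) with e | e
    · exact absurd (orderOf_eq_one_iff.1 e) hne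
    · exact e
  have hmod := hP.card_modEq_card_fixedPoints (R : Subgroup G)
  have hfp : Nat.card (MulAction.fixedPoints (Subgroup.zpowers g) (R : Subgroup G)) =
      Nat.card (eqLocus g) := by
    refine Nat.card_congr (Equiv.subtypeEquivRight fun x => ⟨fun h => ?_, fun h k => ?_⟩)
    · exact h ⟨g, Subgroup.mem_zpowers g⟩
    · obtain ⟨k, i, rfl⟩ := k
      exact (MulAction.mem_stabilizer_iff (a := x) (g := g ^ i)).1
        (zpow_mem ((MulAction.mem_stabilizer_iff (a := x) (g := g)).2 ((mem_eqLocus hR).1 h)) i)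
  rw [hR, hfp] at hmod
  have hc : Nat.card (eqLocus g) = 1 ∨ Nat.card (eqLocus g) = 3 := by
    by_cases hb : eqLocus g = ⊥
    · left; rw [hb, Subgroup.card_bot]
    · right; exact card_eq_three hR hb hne'
  rcases hc with e | e <;> rw [e] at hmod
  · have hd : r ∣ 2 ^ 3 := by
      have := (Nat.modEq_iff_dvd' (by norm_num)).1 hmod.symm
      simpa using this
    have := Nat.le_of_dvd two_pos (hr.dvd_of_dvd_pow hd)
    omega
  · have hd : r ∣ 2 * 3 := by
      have := (Nat.modEq_iff_dvd' (by norm_num)).1 hmod.symm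
      simpa using this
    rcases hr.dvd_mul.1 hd with h | h <;> have := Nat.le_of_dvd (by norm_num) h <;> omega

end Auto

open scoped Classical in
/-- With at least three classes of nontrivial 3-elements the normaliser inverts `R` or acts
through the four sign changes. -/
theorem setup_or_four [IsSimpleGroup G] (hna : ∃ u v : G, u * v ≠ v * u)
    (hR : Nat.card (R : Subgroup G) = 9)
    (h3 : 3 ≤ Nat.card {C : ConjClasses G // ∃ g ∈ C.carrier, g ≠ 1 ∧ orderOf g ∣ 9}) :
    Setup R 2 ∨ ∃ a b : G, Four R a b := by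
  classical
  have := Fintype.ofFinite G
  have : Fact (Nat.Prime 3) := ⟨Nat.prime_three⟩
  have hcomm := comm_of_card_nine hR
  set φ := act R with hφ
  set H := φ.range with hH
  -- orders in the automizer
  have hker : φ.ker = (Subgroup.centralizer (R : Set G)).subgroupOf (Subgroup.normalizer (R : Set G)) :=
    Subgroup.normalizerMonoidHom_ker _
  have hRC : (R : Subgroup G) ≤ Subgroup.centralizer (R : Set G) := fun u hu =>
    Subgroup.mem_centralizer_iff.2 fun v hv =>
      congrArg Subtype.val (hcomm.is_comm.comm (⟨v, hv⟩ : (R : Subgroup G)) ⟨u, hu⟩)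
  have hH3 : ¬ 3 ∣ Nat.card H := by
    intro h
    refine R.not_dvd_index (h.trans ?_)
    rw [hH, ← Subgroup.index_ker, hker]
    exact (show (Subgroup.centralizer (R : Set G)).relIndex (Subgroup.normalizer (R : Set G)) ∣
        (Subgroup.centralizer (R : Set G)).index from
      ⟨_, (Subgroup.relIndex_mul_index (Subgroup.centralizer_le_normalizer _)).symm⟩).trans
      (Subgroup.index_dvd_of_le hRC)
  have hclass : ¬ ∃ x y : (R : Subgroup G), ∀ z : (R : Subgroup G), z ≠ 1 →
      IsConj (x : G) z ∨ IsConj (y : G) z := by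
    rintro ⟨x, y, hxy⟩
    let f : {C : ConjClasses G // ∃ g ∈ C.carrier, g ≠ 1 ∧ orderOf g ∣ 9} → Bool :=
      fun C => decide (C.1 = ConjClasses.mk (x : G))
    have hcov : ∀ C : {C : ConjClasses G // ∃ g ∈ C.carrier, g ≠ 1 ∧ orderOf g ∣ 9},
        C.1 = ConjClasses.mk (x : G) ∨ C.1 = ConjClasses.mk (y : G) := by
      rintro ⟨C, g, hgC, hg1, hg9⟩
      obtain ⟨c, hc⟩ : ∃ c : G, c * g * c⁻¹ ∈ (R : Subgroup G) := by
        obtain ⟨k, -, hk⟩ := (Nat.dvd_prime_pow Nat.prime_three).1 (show orderOf g ∣ 3 ^ 2 from hg9)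
        obtain ⟨W, hW⟩ := (IsPGroup.of_card (n := k)
          (by rw [Nat.card_zpowers, hk]) : IsPGroup 3 (Subgroup.zpowers g)).exists_le_sylow
        obtain ⟨c, hc⟩ := MulAction.exists_smul_eq G W R
        exact ⟨c, hc ▸ ⟨g, hW (Subgroup.mem_zpowers g), rfl⟩⟩
      have hne : (⟨_, hc⟩ : (R : Subgroup G)) ≠ 1 := fun e =>
        hg1 (conj_eq_one_iff.1 (congrArg Subtype.val e))
      have hgz : ConjClasses.mk g = ConjClasses.mk (c * g * c⁻¹) :=
        ConjClasses.mk_eq_mk_iff_isConj.2 (isConj_iff.2 ⟨c, rfl⟩)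
      have hC : C = ConjClasses.mk g := (ConjClasses.mem_carrier_iff_mk_eq.1 hgC).symm
      rcases hxy _ hne with h | h
      · left; exact hC.trans (hgz.trans (ConjClasses.mk_eq_mk_iff_isConj.2 h.symm))
      · right; exact hC.trans (hgz.trans (ConjClasses.mk_eq_mk_iff_isConj.2 h.symm))
    have hinj : Function.Injective f := by
      intro C D h
      simp only [f, decide_eq_decide] at h
      apply Subtype.ext
      rcases hcov C with e | e
      · rw [e, h.1 e]
      · rcases hcov D with e' | e'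
        · rw [e', h.2 e']
        · rw [e, e']
    have := Nat.card_le_card_of_injective f hinj
    rw [Nat.card_eq_fintype_card (α := Bool), Fintype.card_bool] at this
    omega
  have hsq : ∀ g ∈ H, g ^ 2 = 1 := by
    intro g hg
    by_contra hg2
    have hdvd : orderOf g ∣ Nat.card H := Subgroup.orderOf_dvd_natCard H hg
    have hg0 : 0 < orderOf g := orderOf_pos g
    by_cases hodd : ∃ r, r.Prime ∧ r ≠ 2 ∧ r ∣ orderOf g
    · obtain ⟨r, hr, hr2, hrg⟩ := hodd
      have hr3 : r ≠ 3 := by
        intro e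
        rw [e] at hrg
        exact hH3 (hrg.trans hdvd)
      have hr5 : 5 ≤ r := by
        have := hr.two_le
        by_contra hlt
        interval_cases r <;> first | omega | norm_num at hr
      have ho := orderOf_pow_orderOf_div hg0.ne' hrg
      have h1 := eq_one_of_prime_order hR hr hr5 (g := g ^ (orderOf g / r))
        (by have h' := pow_orderOf_eq_one (g ^ (orderOf g / r)); rwa [ho] at h')
      rw [h1, orderOf_one] at ho
      omega
    push Not at hodd
    have hk := Nat.eq_prime_pow_of_unique_prime_dvd hg0.ne'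
      (fun {d} hd hdg => by_contra fun e => hodd d hd e hdg)
    set k := (orderOf g).primeFactorsList.length with hk'
    have h4 : 2 ≤ k := by
      by_contra hlt
      have hd : orderOf g ∣ 2 ^ 1 := hk ▸ pow_dvd_pow 2 (by omega)
      exact hg2 (orderOf_dvd_iff_pow_eq_one.1 (by simpa using hd))
    set h := g ^ (2 ^ (k - 2)) with hh
    have hord : orderOf h = 4 := by
      rw [hh, orderOf_pow_of_dvd (by positivity) (hk ▸ pow_dvd_pow 2 (Nat.sub_le k 2)), hk,
        Nat.pow_div (Nat.sub_le k 2) two_pos, show k - (k - 2) = 2 by omega]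
      norm_num
    have h4' : h ^ 4 = 1 := by rw [← hord]; exact pow_orderOf_eq_one h
    have h2' : h ^ 2 ≠ 1 := fun e => by
      have := orderOf_dvd_of_pow_eq_one e
      rw [hord] at this
      norm_num at this
    have hsemi := fun x (hx : x ≠ 1) => square_semiregular hR h4' h2' (x := x) hx
    -- two orbits
    have horb : ∀ x : (R : Subgroup G), x ≠ 1 → ∀ i j : ℕ, i < j → j < 4 → (h ^ i) x ≠ (h ^ j) x := by
      intro x hx i j hij hj e
      have e1 : (h ^ (j - i)) x = x := by
        apply (h ^ i).injective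
        rw [← MulAut.mul_apply, ← pow_add, Nat.add_sub_cancel' hij.le]
        exact e.symm
      refine hsemi x hx ?_
      obtain hd | hd | hd : j - i = 1 ∨ j - i = 2 ∨ j - i = 3 := by omega
      · rw [hd, pow_one] at e1
        rw [sq, MulAut.mul_apply, e1, e1]
      · rwa [hd] at e1
      · rw [hd] at e1
        have e2 : (h ^ (3 + 3)) x = x := by rw [pow_add, MulAut.mul_apply, e1, e1]
        rwa [show 3 + 3 = 4 + 2 from rfl, pow_add, h4', one_mul] at e2
    have hnt : Nontrivial (R : Subgroup G) :=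
      Finite.one_lt_card_iff_nontrivial.1 (by rw [hR]; norm_num)
    obtain ⟨x, hx⟩ := exists_ne (1 : (R : Subgroup G))
    have : Fintype (R : Subgroup G) := Fintype.ofFinite _
    set O : ↥(R : Subgroup G) → Finset ↥(R : Subgroup G) :=
      fun x => (Finset.range 4).image fun i => (h ^ i) x with hO
    have hOcard : ∀ x, x ≠ 1 → (O x).card = 4 := fun x hx => by
      rw [hO, Finset.card_image_of_injOn, Finset.card_range]
      intro i hi j hj e
      simp only [Finset.coe_range, Set.mem_Iio] at hi hj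
      by_contra hne
      rcases Nat.lt_or_gt_of_ne hne with hlt | hlt
      · exact horb x hx i j hlt hj e
      · exact horb x hx j i hlt hi e.symm
    have hOne : ∀ x, x ≠ 1 → (1 : (R : Subgroup G)) ∉ O x := fun x hx hmem => by
      obtain ⟨i, -, hi⟩ := Finset.mem_image.1 hmem
      exact hx ((EmbeddingLike.map_eq_one_iff).1 hi)
    obtain ⟨y, hy⟩ : ((Finset.univ.erase 1) \ O x).Nonempty := by
      rw [← Finset.card_pos]
      have h1 := Finset.le_card_sdiff (O x) ((Finset.univ : Finset (R : Subgroup G)).erase 1)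
      rw [Finset.card_erase_of_mem (Finset.mem_univ _), Finset.card_univ,
        ← Nat.card_eq_fintype_card, hR, hOcard x hx] at h1
      omega
    simp only [Finset.mem_sdiff, Finset.mem_erase, Finset.mem_univ, and_true] at hy
    have hdisj : Disjoint (O x) (O y) := by
      rw [Finset.disjoint_left]
      intro z hz hz'
      obtain ⟨i, hi, rfl⟩ := Finset.mem_image.1 hz
      obtain ⟨j, hj, e⟩ := Finset.mem_image.1 hz'
      rw [Finset.mem_range] at hi hj
      refine hy.2 (Finset.mem_image.2 ⟨(i + 4 - j) % 4, Finset.mem_range.2 (Nat.mod_lt _ (by norm_num)), ?_⟩)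
      apply (h ^ j).injective
      rw [← MulAut.mul_apply, ← pow_add, e]
      have hm : ∀ m, h ^ m = h ^ (m % 4) := fun m => by
        conv_lhs => rw [← Nat.mod_add_div m 4, pow_add, pow_mul, h4', one_pow, mul_one]
      rw [hm, show (j + (i + 4 - j) % 4) % 4 = i by omega]
    have hunion : O x ∪ O y = Finset.univ.erase 1 := by
      refine Finset.eq_of_subset_of_card_le (fun z hz => Finset.mem_erase.2 ⟨?_, Finset.mem_univ _⟩) ?_
      · rintro rfl
        rcases Finset.mem_union.1 hz with e | e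
        · exact hOne x hx e
        · exact hOne y hy.1 e
      · rw [Finset.card_union_of_disjoint hdisj, hOcard x hx, hOcard y hy.1,
          Finset.card_erase_of_mem (Finset.mem_univ _), Finset.card_univ,
          ← Nat.card_eq_fintype_card, hR]
    have hconjh : ∀ (i : ℕ) (x : (R : Subgroup G)), IsConj (x : G) ((h ^ i) x : (R : Subgroup G)) := by
      intro i x
      obtain ⟨n, hn⟩ : h ^ i ∈ φ.range := pow_mem (pow_mem hg _) _
      rw [← hn]
      exact isConj_iff.2 ⟨n, (coe_act n x).symm⟩
    refine hclass ⟨x, y, fun z hz => ?_⟩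
    have hz' : z ∈ O x ∪ O y := hunion ▸ Finset.mem_erase.2 ⟨hz, Finset.mem_univ _⟩
    rcases Finset.mem_union.1 hz' with e | e <;> obtain ⟨i, -, rfl⟩ := Finset.mem_image.1 e
    · exact Or.inl (hconjh i x)
    · exact Or.inr (hconjh i y)
  have hcommH : ∀ g ∈ H, ∀ h ∈ H, g * h = h * g := by
    intro g hg h hh
    have e : ∀ k ∈ H, k⁻¹ = k := fun k hk =>
      inv_eq_of_mul_eq_one_right (by rw [← sq]; exact hsq k hk)
    rw [← e _ (mul_mem hg hh), mul_inv_rev, e g hg, e h hh]
  by_cases hfp : ∃ g ∈ H, g ≠ 1 ∧ ∃ x : (R : Subgroup G), x ≠ 1 ∧ g x = x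
  · right
    obtain ⟨g, hg, hg1, x, hx, hgx⟩ := hfp
    obtain ⟨y, hy1, hy⟩ := exists_inverted hR (hsq g hg) hg1
    have hA : Nat.card (eqLocus g) = 3 := by
      refine card_eq_three hR (fun e => hx ?_) (fun e => hg1 (MulEquiv.ext fun z => ?_))
      · rw [← Subgroup.mem_bot, ← e]; exact hgx
      · have : z ∈ eqLocus g := e ▸ Subgroup.mem_top z
        exact (mem_eqLocus hR).1 this
    have hB : Nat.card (invLocus hR g) = 3 := by
      refine card_eq_three hR (fun e => hy1 ?_) (fun e => ?_)
      · rw [← Subgroup.mem_bot, ← e]; exact hy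
      · have h' : x ∈ invLocus hR g := e ▸ Subgroup.mem_top x
        rw [mem_invLocus hR, hgx] at h'
        exact orderOf_R hR hx (by rw [sq]; exact mul_eq_one_iff_eq_inv.2 h')
    have hox : orderOf (x : G) = 3 := by
      have hd : orderOf x ∣ 3 := by
        have h' := Subgroup.orderOf_dvd_natCard _ ((mem_eqLocus hR).2 hgx)
        rwa [hA] at h'
      rw [Subgroup.orderOf_coe]
      rcases (Nat.dvd_prime Nat.prime_three).1 hd with e | e
      · exact absurd (orderOf_eq_one_iff.1 e) hx
      · exact e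
    have hoy : orderOf (y : G) = 3 := by
      have hd : orderOf y ∣ 3 := by
        have h' := Subgroup.orderOf_dvd_natCard _ ((mem_invLocus hR).2 hy)
        rwa [hB] at h'
      rw [Subgroup.orderOf_coe]
      rcases (Nat.dvd_prime Nat.prime_three).1 hd with e | e
      · exact absurd (orderOf_eq_one_iff.1 e) hy1
      · exact e
    have hind : (x : G) ∉ Subgroup.zpowers (y : G) := by
      rintro ⟨i, hi⟩
      have hi' : y ^ i = x := Subtype.ext (by simpa using hi)
      have h' : x ∈ invLocus hR g := hi' ▸ zpow_mem ((mem_invLocus hR).2 hy) i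
      rw [mem_invLocus hR, hgx] at h'
      exact orderOf_R hR hx (by rw [sq]; exact mul_eq_one_iff_eq_inv.2 h')
    have hspan : ∀ z : (R : Subgroup G), ∃ i j : ℕ, i < 3 ∧ j < 3 ∧ z = x ^ i * y ^ j := by
      let f : Fin 3 × Fin 3 → (R : Subgroup G) := fun t => x ^ (t.1 : ℕ) * y ^ (t.2 : ℕ)
      have hinj : Function.Injective f := by
        rintro ⟨i, j⟩ ⟨i', j'⟩ e
        have e' : (x : G) ^ ((i : ℤ) - i') = (y : G) ^ ((j' : ℤ) - j) := by
          have e1 : (x : G) ^ (i : ℕ) * (y : G) ^ (j : ℕ) = (x : G) ^ (i' : ℕ) * (y : G) ^ (j' : ℕ) :=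
            by simpa [f] using congrArg Subtype.val e
          have hc : Commute ((x : G) ^ (i' : ℕ)) ((x : G) ^ (i : ℕ)) :=
            (Commute.refl (x : G)).pow_pow _ _
          rw [zpow_sub, zpow_sub, zpow_natCast, zpow_natCast, zpow_natCast, zpow_natCast,
            ← hc.inv_left.eq, inv_mul_eq_iff_eq_mul, ← mul_assoc, eq_mul_inv_iff_mul_eq]
          exact e1
        have hi0 : ((i : ℤ) - i') % 3 = 0 := by
          by_contra hne
          apply hind
          have hmem : (x : G) ^ ((i : ℤ) - i') ∈ Subgroup.zpowers (y : G) :=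
            e' ▸ Subgroup.zpow_mem_zpowers _ _
          rw [← zpow_mod_orderOf, hox] at hmem
          have h3' : ((i : ℤ) - i') % 3 = 1 ∨ ((i : ℤ) - i') % 3 = 2 := by omega
          rw [show ((3 : ℕ) : ℤ) = 3 from rfl] at hmem
          rcases h3' with e2 | e2 <;> rw [e2] at hmem
          · rwa [zpow_one] at hmem
          · have h4 := Subgroup.mul_mem _ hmem hmem
            rw [← zpow_add] at h4
            have h5 : (x : G) ^ ((2 : ℤ) + 2) = x := by
              have h6 := pow_orderOf_eq_one (x : G)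
              rw [hox] at h6
              rw [show (2 : ℤ) + 2 = ((3 : ℕ) : ℤ) + 1 by norm_num, zpow_add, zpow_natCast, h6,
                one_mul, zpow_one]
            rwa [h5] at h4
        have hii : i = i' := Fin.ext (by omega)
        subst hii
        have hj0 : ((j' : ℤ) - j) % 3 = 0 := by
          rw [sub_self, zpow_zero, eq_comm, ← orderOf_dvd_iff_zpow_eq_one, hoy] at e'
          omega
        have hjj : j = j' := Fin.ext (by omega)
        rw [hjj]
      have hbij := (Fintype.bijective_iff_injective_and_card f).2 ⟨hinj, by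
        simp [← Nat.card_eq_fintype_card, hR, Nat.card_fin]⟩
      intro z
      obtain ⟨⟨i, j⟩, hij⟩ := hbij.2 z
      exact ⟨i, j, i.2, j.2, hij.symm⟩
    have hact : ∀ h ∈ H, (h x = x ∨ h x = x⁻¹) ∧ (h y = y ∨ h y = y⁻¹) := by
      intro h hh
      have hc : ∀ z, g (h z) = h (g z) := fun z => by
        rw [← MulAut.mul_apply, ← MulAut.mul_apply, hcommH g hg h hh]
      exact ⟨fix_or_inv hR hA ((mem_eqLocus hR).2 hgx) hx
          ((mem_eqLocus hR).2 (by rw [hc, hgx])),
        fix_or_inv hR hB ((mem_invLocus hR).2 hy) hy1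
          ((mem_invLocus hR).2 (by rw [hc, hy, map_inv]))⟩
    obtain ⟨h, hh, hhx⟩ : ∃ h ∈ H, h x = x⁻¹ := by
      by_contra hno
      push Not at hno
      have hB' : (invLocus hR g).map (R : Subgroup G).subtype ≠ (R : Subgroup G) := fun e => by
        have := congrArg (fun K : Subgroup G => Nat.card K) e
        simp only [Nat.card_congr (Subgroup.equivMapOfInjective _ _
          (Subgroup.subtype_injective _)).symm.toEquiv, hB, hR] at this
        omega
      obtain ⟨r, hr, n, hn, hnot⟩ :=
        exists_commutator_not_mem hna hR (Subgroup.map_subtype_le _) hB'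
      refine hnot ⟨⟨r, hr⟩ * (act R ⟨n, hn⟩ ⟨r, hr⟩)⁻¹, ?_, ?_⟩
      · obtain ⟨i, j, -, -, hz⟩ := hspan ⟨r, hr⟩
        have hm : act R ⟨n, hn⟩ ∈ H := ⟨_, rfl⟩
        have hnx : act R ⟨n, hn⟩ x = x := ((hact _ hm).1).resolve_right (hno _ hm)
        rw [SetLike.mem_coe, hz, map_mul, map_pow, map_pow, hnx, mul_inv_rev,
          mul_comm_R hR ((act R ⟨n, hn⟩ y ^ j)⁻¹), ← mul_assoc, mul_comm_R hR (x ^ i) (y ^ j),
          mul_inv_cancel_right]
        refine mul_mem (pow_mem ((mem_invLocus hR).2 hy) _) (inv_mem (pow_mem ?_ _))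
        rcases (hact _ hm).2 with e | e <;> rw [e]
        · exact (mem_invLocus hR).2 hy
        · exact inv_mem ((mem_invLocus hR).2 hy)
      · simp [coe_act]; group
    have hflipA : ∃ k ∈ H, k x = x⁻¹ ∧ k y = y := by
      rcases (hact h hh).2 with e | e
      · exact ⟨h, hh, hhx, e⟩
      · exact ⟨g * h, mul_mem hg hh, by rw [MulAut.mul_apply, hhx, map_inv, hgx],
          by rw [MulAut.mul_apply, e, map_inv, hy, inv_inv]⟩
    refine ⟨(x : G), (y : G), ⟨hcomm, x.2, y.2, hox, hoy, hind, fun z hz => ?_, fun n hn => ?_,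
      fun n hn => ?_, ?_, ?_⟩⟩
    · obtain ⟨i, j, hi, hj, e⟩ := hspan ⟨z, hz⟩
      exact ⟨i, j, hi, hj, by simpa using congrArg Subtype.val e⟩
    · rcases (hact (act R ⟨n, hn⟩) ⟨_, rfl⟩).1 with e | e
      · left; exact congrArg Subtype.val e
      · right; exact congrArg Subtype.val e
    · rcases (hact (act R ⟨n, hn⟩) ⟨_, rfl⟩).2 with e | e
      · left; exact congrArg Subtype.val e
      · right; exact congrArg Subtype.val e
    · obtain ⟨k, ⟨n, rfl⟩, hkx, hky⟩ := hflipA
      exact ⟨n, n.2, congrArg Subtype.val hkx, congrArg Subtype.val hky⟩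
    · obtain ⟨n, hn⟩ := hg
      rw [← hn] at hgx hy
      exact ⟨n, n.2, congrArg Subtype.val hgx, congrArg Subtype.val hy⟩
  · left
    push Not at hfp
    have hinv : ∀ g ∈ H, g ≠ 1 → g = MulEquiv.mk' (Equiv.inv (R : Subgroup G))
        (fun x y => by simp [mul_comm_R hR y⁻¹ x⁻¹]) := by
      intro g hg hg1
      refine MulEquiv.ext fun z => ?_
      show g z = z⁻¹
      by_contra hne
      refine hfp g hg hg1 (g z * z) (fun h => hne (mul_eq_one_iff_eq_inv.1 h)) ?_
      rw [map_mul, ← MulAut.mul_apply, ← sq, hsq g hg, MulAut.one_apply, mul_comm_R hR]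
    obtain ⟨g, hg, hg1⟩ : ∃ g ∈ H, g ≠ 1 := by
      by_contra hno
      push Not at hno
      have hbot : (⊥ : Subgroup G) ≠ (R : Subgroup G) := fun e => by
        rw [← e, Subgroup.card_bot] at hR
        omega
      obtain ⟨r, hr, n, hn, hnot⟩ := exists_commutator_not_mem hna hR bot_le hbot
      refine hnot (Subgroup.mem_bot.2 ?_)
      have h := congrArg (fun g : MulAut (R : Subgroup G) => ((g ⟨r, hr⟩⁻¹ : (R : Subgroup G)) : G))
        (hno (act R ⟨n, hn⟩) ⟨_, rfl⟩)
      simp only [coe_act, MulAut.one_apply, Subgroup.coe_inv] at h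
      rw [h, mul_inv_cancel]
    have hcard : Nat.card H = 2 := by
      have hs : (H : Set (MulAut (R : Subgroup G))) = {1, g} := Set.ext fun k => by
        constructor
        · intro hk
          rcases eq_or_ne k 1 with e | e
          · exact Or.inl e
          · exact Or.inr ((hinv k hk e).trans (hinv g hg hg1).symm)
        · rintro (rfl | rfl)
          · exact one_mem H
          · exact hg
      rw [show Nat.card H = Nat.card ((H : Set (MulAut (R : Subgroup G)))) from rfl, hs,
        Nat.card_coe_set_eq, Set.ncard_pair (Ne.symm hg1)]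
    refine ⟨hcomm, ?_, fun y hy hy1 => ?_⟩
    · rw [← hcard, hH, ← Subgroup.index_ker, hker]
      rfl
    · refine le_antisymm (fun n hn => ?_) fun n hn => ?_
      · obtain ⟨hn1, hn2⟩ := Subgroup.mem_inf.1 hn
        refine (act_eq_one_iff (R := R) ⟨n, hn2⟩).1 ?_
        by_contra hne
        refine hfp _ ⟨_, rfl⟩ hne ⟨y, hy⟩ (fun e => hy1 (congrArg Subtype.val e)) (Subtype.ext ?_)
        show n * y * n⁻¹ = y
        rw [Subgroup.mem_centralizer_singleton_iff.1 hn1, mul_inv_cancel_right]
      · exact Subgroup.mem_inf.2 ⟨Subgroup.mem_centralizer_singleton_iff.2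
          (Subgroup.mem_centralizer_iff.1 hn y hy).symm, Subgroup.centralizer_le_normalizer _ hn⟩

end Cfsg.Agent.NineTwoPrimes
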