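import Mathlib
import Cfsg.Agent.NineTwoPrimes.Local
import Cfsg.Agent.NineTwoPrimes.Inversion

/-!
# No simple group with four sign changes on a Sylow subgroup of order nine
-/

set_option autoImplicit false

namespace Cfsg.Agent.NineTwoPrimes

open scoped ComplexConjugate
open Cfsg.Agent Cfsg.Agent.Blocks Cfsg.Agent.BlockThms.AbelianTI
open Cfsg.Agent.BlockThms.OrderP (exists_orderOf_pow pPartOf_self exists_conj_mem)

universe u

variable {G : Type u} [Group G]

theorem orderOf_seventeen : ∃ g : Matrix.ProjectiveSpecialLinearGroup (Fin 2) (ZMod 17),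
    orderOf g = 9 := by
  let M : Matrix.SpecialLinearGroup (Fin 2) (ZMod 17) :=
    ⟨!![0, 16; 1, 3], by rw [Matrix.det_fin_two_of]; decide⟩
  refine ⟨(M : Matrix.ProjectiveSpecialLinearGroup (Fin 2) (ZMod 17)),
    orderOf_eq_prime_pow (p := 3) (n := 1) ?_ ?_⟩
  · rw [← QuotientGroup.mk_pow, QuotientGroup.eq_one_iff,
      Matrix.SpecialLinearGroup.mem_center_iff]
    rintro ⟨r, -, hr⟩
    have h1 := congrFun (congrFun hr 0) 1
    rw [Matrix.scalar_apply, Matrix.diagonal_apply_ne _ (by decide),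
      Matrix.SpecialLinearGroup.coe_pow] at h1
    revert h1
    simp only [M]
    decide
  · rw [← QuotientGroup.mk_pow, QuotientGroup.eq_one_iff,
      Matrix.SpecialLinearGroup.mem_center_iff]
    refine ⟨-1, by decide, ?_⟩
    rw [Matrix.SpecialLinearGroup.coe_pow]
    simp only [M]
    decide

theorem Four.symm {R : Sylow 3 G} {a b : G} (h : Four R a b) : Four R b a := by
  have hcomm : a * b = b * a :=
    congrArg Subtype.val (h.comm.is_comm.comm (⟨a, h.amem⟩ : (R : Subgroup G)) ⟨b, h.bmem⟩)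
  refine ⟨h.comm, h.bmem, h.amem, h.ord_b, h.ord_a, ?_, ?_, h.act_b, h.act_a, ?_, ?_⟩
  · rintro ⟨i, hi⟩
    change a ^ i = b at hi
    obtain ⟨n, -, hna, hnb⟩ := h.flip_b
    have h1 : n * b * n⁻¹ = b := by
      rw [← hi, ← conj_zpow, hna]
    rw [hnb] at h1
    have h2 : b ^ 2 = 1 := by rw [sq]; nth_rewrite 1 [← h1]; rw [inv_mul_cancel]
    have h3 := orderOf_dvd_of_pow_eq_one h2
    rw [h.ord_b] at h3
    norm_num at h3
  · intro x hx
    obtain ⟨i, j, hi, hj, e⟩ := h.span x hx
    exact ⟨j, i, hj, hi, by rw [e, ((show Commute a b from hcomm).pow_pow i j).eq]⟩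
  · obtain ⟨n, hn, e1, e2⟩ := h.flip_b
    exact ⟨n, hn, e2, e1⟩
  · obtain ⟨n, hn, e1, e2⟩ := h.flip_a
    exact ⟨n, hn, e2, e1⟩

variable {R : Sylow 3 G} {a b : G}

/-- The 3-part is conjugate into `⟨b⟩`. -/
def InLine (b g : G) : Prop := ∃ c : G, c * pPartOf 3 g * c⁻¹ ∈ Subgroup.zpowers b

open scoped _root_.Classical in
/-- Three off the sections of `⟨b⟩`. -/
noncomputable def offLine (b : G) : G → ℂ := fun g => if InLine b g then 0 else 3

theorem inLine_of_regular [Finite G] {g : G} (hg : ¬ 3 ∣ orderOf g) : InLine b g :=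
  ⟨1, by rw [(pPartOf_eq_one_iff Nat.prime_three g).2 hg]; simp⟩

theorem offLine_regular [Finite G] {g : G} (hg : ¬ 3 ∣ orderOf g) : offLine b g = 0 :=
  if_pos (inLine_of_regular hg)

theorem inLine_conj (g k : G) [Finite G] : InLine b (k * g * k⁻¹) ↔ InLine b g := by
  constructor
  · rintro ⟨c, hc⟩
    refine ⟨c * k, ?_⟩
    rw [pPartOf_conj] at hc
    convert hc using 1
    group
  · rintro ⟨c, hc⟩
    refine ⟨c * k⁻¹, ?_⟩
    rw [pPartOf_conj]
    convert hc using 1
    group

theorem offLine_class [Finite G] : Cfsg.IsClassFunction G (offLine b) := fun g k => by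
  by_cases h : InLine b g <;> simp [offLine, inLine_conj, h]

variable [Fintype G] (hR : Nat.card (R : Subgroup G) = 9) (hF : Four R a b)
include hF

theorem Four.pow_three {x : G} (hx : x ∈ (R : Subgroup G)) : x ^ 3 = 1 := by
  obtain ⟨i, j, -, -, rfl⟩ := hF.span x hx
  have hcomm : Commute a b :=
    congrArg Subtype.val (hF.comm.is_comm.comm (⟨a, hF.amem⟩ : (R : Subgroup G)) ⟨b, hF.bmem⟩)
  have ha := pow_orderOf_eq_one a
  have hb := pow_orderOf_eq_one b
  rw [hF.ord_a] at ha
  rw [hF.ord_b] at hb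
  rw [(hcomm.pow_pow i j).mul_pow, ← pow_mul, ← pow_mul, mul_comm i, mul_comm j, pow_mul, pow_mul,
    ha, hb, one_pow, one_pow, one_mul]

theorem Four.conj_line {n x : G} (hn : n ∈ Subgroup.normalizer (R : Set G))
    (hx : x ∈ Subgroup.zpowers b) : n * x * n⁻¹ ∈ Subgroup.zpowers b := by
  obtain ⟨i, rfl⟩ := hx
  rw [← conj_zpow]
  rcases hF.act_b n hn with e | e <;> rw [e]
  · exact Subgroup.zpow_mem_zpowers _ _
  · exact zpow_mem (inv_mem (Subgroup.mem_zpowers b)) i

theorem Four.line_le : Subgroup.zpowers b ≤ (R : Subgroup G) :=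
  (Subgroup.zpowers_le).2 hF.bmem

theorem Four.inLine_iff {g u : G} (hu : u ∈ (R : Subgroup G)) (h : IsConj (pPartOf 3 g) u) :
    InLine b g ↔ u ∈ Subgroup.zpowers b := by
  obtain ⟨d, hd⟩ := isConj_iff.1 h
  constructor
  · rintro ⟨c, hc⟩
    have e : c * d⁻¹ * u * (c * d⁻¹)⁻¹ = c * pPartOf 3 g * c⁻¹ := by rw [← hd]; group
    obtain ⟨t, ht, hte⟩ := Fusion.exists_mem_normalizer_conj_of_isMulCommutative R hF.comm hu
      (c * d⁻¹) (by rw [e]; exact hF.line_le hc)
    rw [e] at hte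
    have := hF.conj_line (inv_mem ht) (hte.symm ▸ hc)
    simpa [mul_assoc] using this
  · intro h'
    exact ⟨d, hd ▸ h'⟩

include hR in
theorem Four.isGeneralized_offLine : Cfsg.IsGeneralizedCharacter G (offLine b) := by
  classical
  have hp : Nat.Prime 3 := Nat.prime_three
  have : Fintype (R : Subgroup G) := Fintype.ofFinite _
  have : IsMulCommutative (R : Subgroup G) := hF.comm
  set B := (Subgroup.zpowers b).subgroupOf (R : Subgroup G) with hB
  have hBc : Nat.card B = 3 := by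
    rw [hB, Nat.card_congr (Subgroup.subgroupOfEquivOfLe hF.line_le).toEquiv, Nat.card_zpowers,
      hF.ord_b]
  set f : ↥(R : Subgroup G) → ℂ := fun x => if x ∈ B then 3 else 0 with hf
  have hfc : Cfsg.IsCharacter (R : Subgroup G) f := by
    refine Char.isCharacter_iff.2 ⟨fun x k => ?_, fun ξ => ?_⟩
    · rw [show k * x * k⁻¹ = x by rw [mul_comm' k x, mul_inv_cancel_right]]
    · have : Fintype B := Fintype.ofFinite B
      obtain ⟨k, hk⟩ := Char.classInner_isCharacter_eq_natCast (Char.isCharacter_one (G := B))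
        (Char.isCharacter_res B (Char.IsIrr.isCharacter ξ.2))
      refine ⟨k, ?_⟩
      rw [← hk]
      simp only [Cfsg.classInner, hR, hBc, hf, ite_mul, zero_mul, one_mul, Finset.mul_sum,
        mul_ite, mul_zero]
      rw [← Finset.sum_filter]
      refine Eq.trans ?_ (Finset.sum_subtype (Finset.univ.filter fun x : (R : Subgroup G) => x ∈ B)
        (p := fun x => x ∈ B) (fun x => by simp)
        fun x => (3 : ℂ)⁻¹ * conj ((ξ : ↥(R : Subgroup G) → ℂ) x))
      refine Finset.sum_congr rfl fun x _ => ?_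
      push_cast
      ring
  have hg : Cfsg.IsGeneralizedCharacter (R : Subgroup G) fun x => offLine b (x : G) := by
    have e1 : (fun x : (R : Subgroup G) => offLine b (x : G)) =
        (((fun _ => (1 : ℂ)) + fun _ => (1 : ℂ)) + fun _ => (1 : ℂ)) - f := by
      funext x
      have hx : InLine b (x : G) ↔ x ∈ B := hF.inLine_iff x.2 (by
        rw [pPartOf_self (exists_orderOf_pow x.2)]; exact IsConj.refl _)
      simp only [offLine, hx, Pi.sub_apply, Pi.add_apply, hf]
      split_ifs <;> norm_num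
    rw [e1]
    have h1 := Char.isGeneralized_of_isCharacter (Char.isCharacter_one (G := (R : Subgroup G)))
    exact Char.isGeneralized_sub (Char.isGeneralized_add (Char.isGeneralized_add h1 h1) h1)
      (Char.isGeneralized_of_isCharacter hfc)
  refine Char.isGeneralized_of_elementary offLine_class fun E r hr hE => ?_
  have : Fintype E := Fintype.ofFinite E
  have hco : ∀ v : E, pPartOf 3 (v : G) = ((pPartOf 3 v : E) : G) := fun v => by
    have h := parts_mul hp
      (show Commute ((pPartOf 3 v : E) : G) ((pPrimePartOf 3 v : E) : G) from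
        congrArg Subtype.val (commute_pPartOf_pPrimePartOf v).eq)
      (by simpa only [Subgroup.orderOf_coe] using orderOf_pPartOf hp v)
      (by simpa only [Subgroup.orderOf_coe] using not_dvd_orderOf_pPrimePartOf hp v)
    rw [← Subgroup.coe_mul, pPartOf_mul_pPrimePartOf hp] at h
    exact h.1
  let π : E →* G := MonoidHom.mk' (fun v => ((pPartOf 3 v : E) : G)) fun v w => by
    rw [BlockThms.OrderP.pPartOf_mul_elementary hr hE]; rfl
  have hπ : IsPGroup 3 π.range := by
    rw [IsPGroup.iff_orderOf]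
    rintro ⟨_, v, rfl⟩
    obtain ⟨j, hj⟩ := orderOf_pPartOf hp v
    exact ⟨j, by rw [← Subgroup.orderOf_coe, ← hj, ← Subgroup.orderOf_coe]; rfl⟩
  obtain ⟨W, hW⟩ := hπ.exists_le_sylow
  obtain ⟨c, hc⟩ := MulAction.exists_smul_eq G W R
  let ι : E →* (R : Subgroup G) := ((MulAut.conj c).toMonoidHom.comp π).codRestrict _ fun v =>
    hc ▸ ⟨π v, hW ⟨v, rfl⟩, rfl⟩
  have hval : (fun v : E => offLine b (v : G)) = fun v => offLine b ((ι v : (R : Subgroup G)) : G) := by
    funext v
    have h1 : InLine b (v : G) ↔ ((ι v : (R : Subgroup G)) : G) ∈ Subgroup.zpowers b :=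
      hF.inLine_iff (ι v).2 (isConj_iff.2 ⟨c, by rw [hco]; rfl⟩)
    have h2 : InLine b ((ι v : (R : Subgroup G)) : G) ↔
        ((ι v : (R : Subgroup G)) : G) ∈ Subgroup.zpowers b :=
      hF.inLine_iff (ι v).2 (by rw [pPartOf_self (exists_orderOf_pow (ι v).2)])
    simp only [offLine, h1, h2]
  rw [hval]
  exact Char.isGeneralized_comp ι hg

theorem Four.not_inLine_iff {g : G} :
    ¬ InLine b g ↔ IsConj a (pPartOf 3 g) ∨ IsConj (a * b) (pPartOf 3 g) := by
  have hcomm : Commute a b :=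
    congrArg Subtype.val (hF.comm.is_comm.comm (⟨a, hF.amem⟩ : (R : Subgroup G)) ⟨b, hF.bmem⟩)
  have hab : a * b ∉ Subgroup.zpowers b := fun h =>
    hF.indep ((mul_mem_cancel_right (Subgroup.mem_zpowers b)).1 h)
  constructor
  · intro h
    obtain ⟨c, hc⟩ := exists_conj_mem R (orderOf_pPartOf Nat.prime_three g)
    set u := c * pPartOf 3 g * c⁻¹ with hu
    have hconj : IsConj (pPartOf 3 g) u := isConj_iff.2 ⟨c, rfl⟩
    have hnot : u ∉ Subgroup.zpowers b := fun h' => h ⟨c, h'⟩
    obtain ⟨i, j, hi, hj, e⟩ := hF.span u hc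
    have hi0 : i ≠ 0 := by
      rintro rfl
      rw [e, pow_zero, one_mul] at hnot
      exact hnot (pow_mem (Subgroup.mem_zpowers b) j)
    obtain ⟨nA, -, hA1, hA2⟩ := hF.flip_a
    obtain ⟨nB, -, hB1, hB2⟩ := hF.flip_b
    have ha2 : a ^ 2 = a⁻¹ := by
      rw [eq_inv_iff_mul_eq_one, ← pow_succ]
      exact hF.pow_three hF.amem
    have hb2 : b ^ 2 = b⁻¹ := by
      rw [eq_inv_iff_mul_eq_one, ← pow_succ]
      exact hF.pow_three hF.bmem
    have key : IsConj a u ∨ IsConj (a * b) u := by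
      rw [e]
      interval_cases i <;> interval_cases j
      · exact absurd rfl hi0
      · exact absurd rfl hi0
      · exact absurd rfl hi0
      · left; simp only [pow_one, pow_zero, mul_one]; exact IsConj.refl _
      · right; simp only [pow_one]; exact IsConj.refl _
      · right
        rw [pow_one, hb2]
        exact isConj_iff.2 ⟨nB, by rw [← conj_mul, hB1, hB2]⟩
      · left
        rw [pow_zero, mul_one, ha2]
        exact isConj_iff.2 ⟨nA, hA1⟩
      · right
        rw [pow_one, ha2]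
        exact isConj_iff.2 ⟨nA, by rw [← conj_mul, hA1, hA2]⟩
      · right
        rw [ha2, hb2]
        exact isConj_iff.2 ⟨nB * nA, by
          calc nB * nA * (a * b) * (nB * nA)⁻¹
              = nB * ((nA * a * nA⁻¹) * (nA * b * nA⁻¹)) * nB⁻¹ := by group
            _ = nB * (a⁻¹ * b) * nB⁻¹ := by rw [hA1, hA2]
            _ = (nB * a * nB⁻¹)⁻¹ * (nB * b * nB⁻¹) := by group
            _ = a⁻¹ * b⁻¹ := by rw [hB1, hB2]⟩
    exact key.imp (fun h' => h'.trans hconj.symm) fun h' => h'.trans hconj.symm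
  · rintro (h | h)
    · rw [hF.inLine_iff hF.amem h.symm]
      exact hF.indep
    · rw [hF.inLine_iff (mul_mem hF.amem hF.bmem) h.symm]
      exact hab

include hR in
/-- The centraliser of the mixed element. -/
theorem Four.core_centralizer :
    Nat.card (Cfsg.pPrimeCore 3 (Subgroup.centralizer ({a * b} : Set G) : Subgroup G)) * 9 =
        Nat.card (Subgroup.centralizer ({a * b} : Set G)) ∧
      ∀ y : Subgroup.centralizer ({a * b} : Set G),
        y ∈ Cfsg.pPrimeCore 3 (Subgroup.centralizer ({a * b} : Set G) : Subgroup G) ↔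
          ¬ 3 ∣ orderOf y := by
  classical
  have hp : Nat.Prime 3 := Nat.prime_three
  have hcomm : ∀ u ∈ (R : Subgroup G), ∀ v ∈ (R : Subgroup G), u * v = v * u := fun u hu v hv =>
    congrArg Subtype.val (hF.comm.is_comm.comm (⟨u, hu⟩ : (R : Subgroup G)) ⟨v, hv⟩)
  have hx : a * b ∈ (R : Subgroup G) := mul_mem hF.amem hF.bmem
  have hle : (R : Subgroup G) ≤ Subgroup.centralizer ({a * b} : Set G) := fun v hv =>
    Subgroup.mem_centralizer_singleton_iff.2 (hcomm v hv _ hx)
  have hcompl : Cfsg.HasNormalPComplement 3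
      (Subgroup.centralizer ({a * b} : Set G) : Subgroup G) := by
    refine Fusion.hasNormalPComplement_of_normalizer_le_centralizer (R.subtype hle)
      fun c hc => Subgroup.mem_centralizer_iff.2 fun v hv => Subtype.ext ?_
    have hcN : (c : G) ∈ Subgroup.normalizer (R : Set G) := by
      refine Subgroup.mem_normalizer_iff.2 fun w => ?_
      have h := Subgroup.mem_normalizer_iff.1 hc
      constructor
      · intro hw
        exact (h ⟨w, hle hw⟩).1 hw
      · intro hw
        have hwC : (c : G)⁻¹ * ((c : G) * w * (c : G)⁻¹) * (c : G) ∈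
            Subgroup.centralizer ({a * b} : Set G) :=
          mul_mem (mul_mem (inv_mem c.2) (hle hw)) c.2
        rw [show (c : G)⁻¹ * ((c : G) * w * (c : G)⁻¹) * (c : G) = w by group] at hwC
        exact (h ⟨w, hwC⟩).2 hw
    have hfix : (c : G) * (a * b) * (c : G)⁻¹ = a * b := by
      rw [Subgroup.mem_centralizer_singleton_iff.1 c.2, mul_inv_cancel_right]
    rw [← conj_mul] at hfix
    have hsqa : a⁻¹ ≠ a := fun e => by
      have := orderOf_dvd_of_pow_eq_one (show a ^ 2 = 1 by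
        rw [sq]; nth_rewrite 1 [← e]; rw [inv_mul_cancel])
      rw [hF.ord_a] at this
      norm_num at this
    have hsqb : b⁻¹ ≠ b := fun e => by
      have := orderOf_dvd_of_pow_eq_one (show b ^ 2 = 1 by
        rw [sq]; nth_rewrite 1 [← e]; rw [inv_mul_cancel])
      rw [hF.ord_b] at this
      norm_num at this
    have hfa : (c : G) * a * (c : G)⁻¹ = a ∧ (c : G) * b * (c : G)⁻¹ = b := by
      rcases hF.act_a _ hcN with e | e <;> rcases hF.act_b _ hcN with e' | e' <;>
        rw [e, e'] at hfix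
      · exact ⟨e, e'⟩
      · exact absurd (mul_left_cancel hfix) hsqb
      · exact absurd (mul_right_cancel hfix) hsqa
      · exfalso
        have h1 : (a * b)⁻¹ = a * b := by
          rw [mul_inv_rev, ← hfix, hcomm _ (inv_mem hF.amem) _ (inv_mem hF.bmem)]
        have h2 := orderOf_dvd_of_pow_eq_one (show (a * b) ^ 2 = 1 by
          rw [sq]; nth_rewrite 1 [← h1]; rw [inv_mul_cancel])
        have h3 := orderOf_dvd_of_pow_eq_one (hF.pow_three hx)
        have h4 := Nat.dvd_gcd h2 h3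
        norm_num at h4
        exact hF.indep (by
          rw [eq_inv_of_mul_eq_one_left h4]
          exact inv_mem (Subgroup.mem_zpowers b))
    have hvR : (v : G) ∈ (R : Subgroup G) := hv
    show (v : G) * (c : G) = (c : G) * (v : G)
    obtain ⟨i, j, -, -, e⟩ := hF.span _ hvR
    rw [e]
    have c1 : Commute a (c : G) := (mul_inv_eq_iff_eq_mul.1 hfa.1).symm
    have c2 : Commute b (c : G) := (mul_inv_eq_iff_eq_mul.1 hfa.2).symm
    exact ((c1.pow_left i).mul_left (c2.pow_left j)).eq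
  obtain ⟨L, hL, hc, j, hj⟩ := Fusion.hasNormalPComplement_iff_exists.1 hcompl
  set K := Cfsg.pPrimeCore 3 (Subgroup.centralizer ({a * b} : Set G) : Subgroup G) with hK
  obtain ⟨i, -, hi⟩ := (Nat.dvd_prime_pow hp).1
    (hj ▸ Subgroup.index_dvd_of_le (Core.le_pPrimeCore (p := 3) hc))
  have hKodd : ¬ 3 ∣ Nat.card K := Core.not_dvd_card_pPrimeCore
  refine ⟨?_, fun y => ⟨fun hy hd => hKodd (hd.trans (Subgroup.orderOf_dvd_natCard K hy)),
    fun hy => BlockThms.mem_of_regular hp ⟨i, hi⟩ hy⟩⟩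
  have h1 := K.card_mul_index
  rw [hi] at h1
  have h9 : 9 ∣ Nat.card (Subgroup.centralizer ({a * b} : Set G)) :=
    hR ▸ Subgroup.card_dvd_of_le hle
  have hfac : 3 ^ (Nat.card (Subgroup.centralizer ({a * b} : Set G))).factorization 3 = 9 := by
    rw [← hR, ← Nat.card_congr (Subgroup.subgroupOfEquivOfLe hle).toEquiv, ← Sylow.coe_subtype (h := hle),
      (R.subtype hle).card_eq_multiplicity]
  have h2 := congrArg (fun t => t.factorization 3) h1
  simp only [Nat.factorization_mul Nat.card_pos.ne' (pow_ne_zero _ hp.ne_zero), Finsupp.add_apply,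
    Nat.factorization_eq_zero_of_not_dvd hKodd, hp.factorization_pow, Finsupp.single_eq_same,
    zero_add] at h2
  rw [← h2] at hfac
  rw [← hfac]
  exact h1

omit hF in
open scoped _root_.Classical in
/-- A sum over the section of `u`. -/
theorem sum_section (u : G) {χ : G → ℂ} (hχ : Cfsg.IsClassFunction G χ) :
    ∑ g ∈ Finset.univ.filter (fun g => IsConj u (pPartOf 3 g)), χ g =
      ((Finset.univ.filter fun s => IsConj u s).card : ℂ) *
        ∑ g ∈ BlockThms.OrderP.fiber 3 u, χ g := by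
  rw [← Finset.sum_fiberwise_of_maps_to (g := fun g => pPartOf 3 g)
    (t := Finset.univ.filter fun s => IsConj u s)
    (fun g hg => Finset.mem_filter.2 ⟨Finset.mem_univ _, (Finset.mem_filter.1 hg).2⟩),
    Finset.sum_congr rfl (g := fun _ => ∑ g ∈ BlockThms.OrderP.fiber 3 u, χ g) fun s hs => ?_,
    Finset.sum_const, nsmul_eq_mul]
  obtain ⟨c, hc⟩ := isConj_iff.1 (Finset.mem_filter.1 hs).2
  rw [← BlockThms.OrderP.sum_fiber_conj hχ c u, hc]
  refine Finset.sum_congr (Finset.ext fun g => ?_) fun _ _ => rfl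
  simp only [Finset.mem_filter, Finset.mem_univ, true_and, BlockThms.OrderP.mem_fiber]
  exact ⟨fun h => h.2, fun h => ⟨h ▸ (Finset.mem_filter.1 hs).2, h⟩⟩

omit hF in
open scoped _root_.Classical in
theorem class_mul_centralizer (u : G) :
    (Finset.univ.filter fun s => IsConj u s).card *
      Nat.card (Subgroup.centralizer ({u} : Set G)) = Nat.card G := by
  have h := Finset.card_eq_sum_card_fiberwise (s := (Finset.univ : Finset G))
    (f := fun h : G => h * u * h⁻¹) (t := Finset.univ.filter fun s => IsConj u s)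
    fun h _ => Finset.mem_filter.2 ⟨Finset.mem_univ _, isConj_iff.2 ⟨h, rfl⟩⟩
  rw [Finset.card_univ, ← Nat.card_eq_fintype_card] at h
  rw [h, Finset.sum_congr rfl (g := fun _ => Nat.card (Subgroup.centralizer ({u} : Set G)))
    fun s hs => ?_, Finset.sum_const, smul_eq_mul]
  obtain ⟨h₀, rfl⟩ := isConj_iff.1 (Finset.mem_filter.1 hs).2
  rw [← Nat.card_eq_finsetCard]
  refine Nat.card_congr
    { toFun := fun h => ⟨h₀⁻¹ * h.1, ?_⟩
      invFun := fun v => ⟨h₀ * v.1, Finset.mem_filter.2 ⟨Finset.mem_univ _, ?_⟩⟩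
      left_inv := fun h => Subtype.ext (mul_inv_cancel_left _ _)
      right_inv := fun v => Subtype.ext (inv_mul_cancel_left _ _) }
  · obtain ⟨h, hh⟩ := h
    have e : h * u * h⁻¹ = h₀ * u * h₀⁻¹ := (Finset.mem_filter.1 hh).2
    refine Subgroup.mem_centralizer_singleton_iff.2 ?_
    calc h₀⁻¹ * h * u = h₀⁻¹ * (h * u * h⁻¹) * h := by group
      _ = u * (h₀⁻¹ * h) := by rw [e]; group
  · calc h₀ * v.1 * u * (h₀ * v.1)⁻¹ = h₀ * (v.1 * u) * v.1⁻¹ * h₀⁻¹ := by group
      _ = _ := by rw [Subgroup.mem_centralizer_singleton_iff.1 v.2]; group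

include hR in
open scoped _root_.Classical in
/-- The sum of a class function over the mixed section, weighted. -/
theorem Four.card_mixed :
    9 * (Finset.univ.filter fun g => IsConj (a * b) (pPartOf 3 g)).card = Nat.card G ∧
    ∀ {M : Ideal Cfsg.AlgInt}, Cfsg.IsPModular 3 M → ∀ χ : Cfsg.IrrCharacter G,
      χ ∈ Cfsg.principalBlock M G →
        9 * ∑ g ∈ Finset.univ.filter (fun g => IsConj (a * b) (pPartOf 3 g)), (χ : G → ℂ) g =
          (Nat.card G : ℂ) * (χ : G → ℂ) (a * b) := by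
  obtain ⟨hK, hmem⟩ := hF.core_centralizer hR
  have hp : Nat.Prime 3 := Nat.prime_three
  have hu : ∃ k, orderOf (a * b) = 3 ^ k := exists_orderOf_pow (P := R) (mul_mem hF.amem hF.bmem)
  have hfib : (BlockThms.OrderP.fiber 3 (a * b)).card * 9 =
      Nat.card (Subgroup.centralizer ({a * b} : Set G)) := by
    have h := sum_pPart_fiber hp hu (fun _ => (1 : ℂ))
    have e1 : ∀ s : Subgroup.centralizer ({a * b} : Set G),
        (if 3 ∣ orderOf s then (0 : ℂ) else 1) =
          if s ∈ Cfsg.pPrimeCore 3 (Subgroup.centralizer ({a * b} : Set G) : Subgroup G) then 1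
          else 0 := fun s => by
      by_cases hs : 3 ∣ orderOf s
      · rw [if_pos hs, if_neg fun h => (hmem s).1 h hs]
      · rw [if_neg hs, if_pos ((hmem s).2 hs)]
    simp only [e1, Finset.sum_boole, Finset.sum_const, nsmul_eq_mul, mul_one] at h
    rw [← hK, show BlockThms.OrderP.fiber 3 (a * b) =
        Finset.univ.filter (fun g => pPartOf 3 g = a * b) by
      ext; simp [BlockThms.OrderP.mem_fiber], Nat.cast_injective h, ← Fintype.card_subtype,
      ← Nat.card_eq_fintype_card]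
  set K := (Finset.univ.filter fun s => IsConj (a * b) s) with hKdef
  have hcls := class_mul_centralizer (a * b)
  refine ⟨?_, fun {M} hM χ hχ => ?_⟩
  · have h := sum_section (a * b) (χ := fun _ => (1 : ℂ)) fun _ _ => rfl
    simp only [Finset.sum_const, nsmul_eq_mul, mul_one] at h
    have h' : (Finset.univ.filter fun g => IsConj (a * b) (pPartOf 3 g)).card =
        K.card * (BlockThms.OrderP.fiber 3 (a * b)).card := by
      rw [← Nat.cast_inj (R := ℂ), Nat.cast_mul]
      exact h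
    rw [h', ← hcls, ← hfib, ← hKdef]
    ring
  · rw [sum_section (a * b) (Char.isClassFunction_of_isIrr χ.2), ← hKdef]
    have hconst : ∀ g ∈ BlockThms.OrderP.fiber 3 (a * b),
        (χ : G → ℂ) g = (χ : G → ℂ) (a * b) := by
      intro g hg
      have hg' := BlockThms.OrderP.mem_fiber.1 hg
      have hc : pPrimePartOf 3 g ∈ Subgroup.centralizer ({a * b} : Set G) :=
        Subgroup.mem_centralizer_singleton_iff.2 (by
          rw [← hg']; exact (commute_pPartOf_pPrimePartOf g).eq.symm)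
      conv_lhs => rw [← pPartOf_mul_pPrimePartOf hp g, hg']
      exact Invol.section_constant hM hu
        (Cfsg.pPrimeCore 3 (Subgroup.centralizer ({a * b} : Set G) : Subgroup G))
        Core.not_dvd_card_pPrimeCore hχ (v := ⟨_, hc⟩)
        ((hmem _).2 (by rw [← Subgroup.orderOf_coe]; exact not_dvd_orderOf_pPrimePartOf hp g))
    rw [Finset.sum_congr rfl hconst, Finset.sum_const, nsmul_eq_mul, ← hcls, ← hfib]
    push_cast
    ring

omit hF in
/-- A function of the 3-part vanishing on regular elements has no constituents outside the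
principal block. -/
theorem inner_eq_zero_of_not_mem {M : Ideal Cfsg.AlgInt} (hM : Cfsg.IsPModular 3 M) {F : G → ℂ}
    (hF : ∀ g k, pPartOf 3 g = pPartOf 3 k → F g = F k) {χ : Cfsg.IrrCharacter G}
    (hχ : χ ∉ Cfsg.principalBlock M G) : Cfsg.classInner F (χ : G → ℂ) = 0 := by
  classical
  have hp : Nat.Prime 3 := Nat.prime_three
  refine mul_eq_zero_of_right _ ?_
  rw [← Finset.sum_fiberwise Finset.univ (pPartOf 3) fun g => F g * conj ((χ : G → ℂ) g)]
  refine Finset.sum_eq_zero fun u _ => ?_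
  by_cases hu : ∃ g, pPartOf 3 g = u
  swap
  · exact Finset.sum_eq_zero fun g hg => absurd ⟨g, (Finset.mem_filter.1 hg).2⟩ hu
  obtain ⟨g₀, hg₀⟩ := hu
  have hou : ∃ k, orderOf u = 3 ^ k := hg₀ ▸ orderOf_pPartOf hp g₀
  rw [Finset.sum_congr rfl (g := fun g => F g₀ * conj ((χ : G → ℂ) g)) fun g hg => by
    rw [hF g g₀ ((Finset.mem_filter.1 hg).2.trans hg₀.symm)], ← Finset.mul_sum, ← map_sum]
  refine mul_eq_zero_of_right _ ?_
  rw [map_eq_zero]
  have h := Invol.section_sum_eq_zero hM hou hχ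
  rw [show (Finset.univ.filter fun g => pPartOf 3 g = u) =
      Finset.univ.filter (fun g => pPartOf 3 g = u) from rfl,
    sum_pPart_fiber hp hou]
  rw [Finset.sum_filter] at h
  refine Eq.trans (Finset.sum_congr ?_ fun s _ => ?_) h
  · ext; simp
  · split_ifs <;> rfl

theorem offLine_pPart (g k : G) (h : pPartOf 3 g = pPartOf 3 k) : offLine b g = offLine b k := by
  classical
  simp only [offLine]
  exact if_congr (by simp only [InLine, h]) rfl rfl

omit hF in
theorem offLine_self (g : G) : offLine b g * conj (offLine b g) = 3 * offLine b g := by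
  classical
  simp only [offLine]
  split_ifs <;> norm_num [Complex.conj_ofNat]

include hR in
open scoped _root_.Classical in
/-- The principal character occurs once. -/
theorem Four.inner_one : Cfsg.classInner (offLine b) (fun _ => (1 : ℂ)) = 1 := by
  have hp : Nat.Prime 3 := Nat.prime_three
  obtain ⟨m, hm, -, -⟩ := Char.IsGen.exists_mult (hF.isGeneralized_offLine hR)
  set S := Finset.univ.filter fun g => ¬ InLine b g with hS
  have hk : (Nat.card G : ℂ) * (m (triv G) : ℂ) = 3 * (S.card : ℂ) := by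
    rw [← hm, Cfsg.classInner, mul_inv_cancel_left₀ (Char.card_ne_zero (G := G))]
    simp only [triv, map_one, mul_one, offLine, hS]
    rw [Finset.sum_ite, Finset.sum_const_zero, zero_add, Finset.sum_const, nsmul_eq_mul]
    ring
  have hk' : (Nat.card G : ℤ) * m (triv G) = 3 * (S.card : ℤ) := by exact_mod_cast hk
  -- the two sections
  set S₁ := Finset.univ.filter fun g => IsConj a (pPartOf 3 g)
  set S₂ := Finset.univ.filter fun g => IsConj (a * b) (pPartOf 3 g)
  have hsplit : S = S₁ ∪ S₂ := by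
    ext g
    simp [hS, S₁, S₂, hF.not_inLine_iff]
  have h1 : 3 * S₁.card ≤ Nat.card G := by
    have h := sum_section a (χ := fun _ => (1 : ℂ)) fun _ _ => rfl
    simp only [Finset.sum_const, nsmul_eq_mul, mul_one] at h
    have h' : S₁.card = (Finset.univ.filter fun s => IsConj a s).card *
        (BlockThms.OrderP.fiber 3 a).card := by
      rw [← Nat.cast_inj (R := ℂ), Nat.cast_mul]
      exact h
    rw [h', ← class_mul_centralizer a, mul_left_comm]
    refine Nat.mul_le_mul_left _ ?_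
    have hda : ∃ k, orderOf a = 3 ^ k := ⟨1, by rw [hF.ord_a]; norm_num⟩
    let f : Fin 3 × BlockThms.OrderP.fiber 3 a → Subgroup.centralizer ({a} : Set G) := fun t =>
      ⟨a ^ (t.1 : ℕ) * (t.2 : G), by
        have hg := BlockThms.OrderP.mem_fiber.1 t.2.2
        refine Subgroup.mem_centralizer_singleton_iff.2 ?_
        have hc : Commute a (t.2 : G) := by
          have h := (commute_pPartOf_pPrimePartOf (p := 3) (t.2 : G))
          rw [hg] at h
          have h' := (Commute.refl a).mul_right h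
          rwa [show a * pPrimePartOf 3 (t.2 : G) = (t.2 : G) by
            conv_rhs => rw [← pPartOf_mul_pPrimePartOf hp (t.2 : G), hg]] at h'
        exact (((Commute.refl a).pow_right _).mul_right hc).eq.symm⟩
    have hinj : Function.Injective f := by
      rintro ⟨i, g⟩ ⟨j, k⟩ e
      have e' : a ^ (i : ℕ) * (g : G) = a ^ (j : ℕ) * (k : G) := congrArg Subtype.val e
      have hpp : ∀ (i : ℕ) (g : BlockThms.OrderP.fiber 3 a),
          pPartOf 3 (a ^ i * (g : G)) = a ^ (i + 1) := by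
        intro i g
        have hg := BlockThms.OrderP.mem_fiber.1 g.2
        have h := (commute_pPartOf_pPrimePartOf (p := 3) (g : G))
        rw [hg] at h
        have e : a ^ i * (g : G) = a ^ (i + 1) * pPrimePartOf 3 (g : G) := by
          conv_lhs => rw [← pPartOf_mul_pPrimePartOf hp (g : G), hg]
          rw [← mul_assoc, ← pow_succ]
        rw [e]
        refine (parts_mul hp (h.pow_left _) ?_ (not_dvd_orderOf_pPrimePartOf hp _)).1
        obtain ⟨l, -, hl⟩ := (Nat.dvd_prime_pow hp).1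
          (show orderOf (a ^ (i + 1)) ∣ 3 ^ 1 by
            have h' : orderOf (a ^ (i + 1)) ∣ orderOf a := orderOf_pow_dvd _
            rw [hF.ord_a] at h'
            rwa [pow_one])
        exact ⟨l, hl⟩
      have h2 := congrArg (pPartOf 3) e'
      rw [hpp, hpp, pow_eq_pow_iff_modEq, hF.ord_a] at h2
      have hij : i = j := Fin.ext (by
        have h3 : ((i : ℕ) + 1) % 3 = ((j : ℕ) + 1) % 3 := h2
        have := i.2
        have := j.2
        omega)
      subst hij
      rw [Subtype.ext (mul_left_cancel e') (a2 := k)]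
    have := Nat.card_le_card_of_injective f hinj
    rwa [Nat.card_prod, Nat.card_fin, Nat.card_eq_finsetCard] at this
  have h2 : 9 * S₂.card = Nat.card G := (hF.card_mixed hR).1
  have hSle : S.card ≤ S₁.card + S₂.card := hsplit ▸ Finset.card_union_le _ _
  have hpos : 0 < S.card := Finset.card_pos.2 ⟨a, by
    rw [hS, Finset.mem_filter]
    exact ⟨Finset.mem_univ _, hF.not_inLine_iff.2 (Or.inl (by
      rw [pPartOf_self (exists_orderOf_pow (P := R) hF.amem)]))⟩⟩
  have hone : m (triv G) = 1 := by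
    have hG : 0 < Nat.card G := Nat.card_pos
    rcases lt_trichotomy (m (triv G)) 1 with h | h | h
    · have : (Nat.card G : ℤ) * m (triv G) ≤ 0 :=
        mul_nonpos_of_nonneg_of_nonpos (by omega) (by omega)
      omega
    · exact h
    · have : (Nat.card G : ℤ) * 2 ≤ (Nat.card G : ℤ) * m (triv G) :=
        mul_le_mul_of_nonneg_left (by omega) (by omega)
      omega
  have h := hm (triv G)
  rw [hone] at h
  simpa [triv] using h

include hR in
open scoped _root_.Classical in
/-- The product is nine on the mixed section. -/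
theorem Four.mul_eq (g : G) : offLine b g * offLine a g =
    if IsConj (a * b) (pPartOf 3 g) then 9 else 0 := by
  have hs := hF.symm
  simp only [offLine]
  by_cases h : IsConj (a * b) (pPartOf 3 g)
  · have hcomm : a * b = b * a :=
      congrArg Subtype.val (hF.comm.is_comm.comm (⟨a, hF.amem⟩ : (R : Subgroup G)) ⟨b, hF.bmem⟩)
    rw [if_pos h, if_neg (hF.not_inLine_iff.2 (Or.inr h)),
      if_neg (hs.not_inLine_iff.2 (Or.inr (hcomm ▸ h)))]
    norm_num
  · rw [if_neg h]
    by_cases h1 : InLine b g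
    · rw [if_pos h1, zero_mul]
    · rw [if_neg h1, if_pos, mul_zero]
      by_contra h2
      have hA := (hF.not_inLine_iff.1 h1).resolve_right h
      rcases hs.not_inLine_iff.1 h2 with e | e
      · -- `a` and `b` are not conjugate
        have hba : IsConj b a := e.trans hA.symm
        obtain ⟨c, hc⟩ := isConj_iff.1 hba
        obtain ⟨t, ht, hte⟩ := Fusion.exists_mem_normalizer_conj_of_isMulCommutative R hF.comm
          hF.bmem c (hc.symm ▸ hF.amem)
        rw [hc] at hte
        exact hF.indep (hte ▸ hF.conj_line ht (Subgroup.mem_zpowers b))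
      · have hcomm : a * b = b * a :=
          congrArg Subtype.val (hF.comm.is_comm.comm (⟨a, hF.amem⟩ : (R : Subgroup G)) ⟨b, hF.bmem⟩)
        exact h (hcomm ▸ e)

variable [IsSimpleGroup G] (hna : ∃ u v : G, u * v ≠ v * u) {q e₂ e : ℕ}
include hna hR

open scoped _root_.Classical in
/-- The two characters and their degrees. -/
theorem Four.exists_pair {M : Ideal Cfsg.AlgInt} (hM : Cfsg.IsPModular 3 M) :
    ∃ (χ₁ χ₂ ψ₁ ψ₂ : Cfsg.IrrCharacter G) (s₁ s₂ : ℤ),
      (s₁ = 1 ∨ s₁ = -1) ∧ (s₂ = 1 ∨ s₂ = -1) ∧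
      (∀ g, offLine b g = 1 + (s₁ : ℂ) * (χ₁ : G → ℂ) g + (s₂ : ℂ) * (χ₂ : G → ℂ) g) ∧
      (∀ χ : Cfsg.IrrCharacter G, Cfsg.classInner (offLine a) (χ : G → ℂ) ≠ 0 → χ = triv G ∨ χ = ψ₁ ∨ χ = ψ₂) ∧
      (∀ χ ∈ ({χ₁, χ₂, ψ₁, ψ₂} : Finset _), χ ≠ triv G ∧
        ¬ 3 ∣ Cfsg.charDegree (χ : G → ℂ)) ∧
      Disjoint ({χ₁, χ₂} : Finset (Cfsg.IrrCharacter G)) {ψ₁, ψ₂} := by
  have hs := hF.symm
  obtain ⟨mA, hmA, hexpA, hsqA⟩ := Char.IsGen.exists_mult (hF.isGeneralized_offLine hR)
  obtain ⟨mB, hmB, hexpB, hsqB⟩ := Char.IsGen.exists_mult (hs.isGeneralized_offLine hR)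
  have hG0 : (Nat.card G : ℂ) ≠ 0 := Char.card_ne_zero
  have h9 : Cfsg.classInner (fun g => offLine b g * offLine a g) (fun _ => (1 : ℂ)) = 1 := by
    simp only [Cfsg.classInner, map_one, mul_one, hF.mul_eq hR]
    rw [Finset.sum_ite, Finset.sum_const_zero, add_zero, Finset.sum_const, nsmul_eq_mul]
    have h := (hF.card_mixed hR).1
    rw [inv_mul_eq_iff_eq_mul₀ hG0, mul_one, ← h]
    push_cast
    ring
  have hreal : ∀ c g, conj (offLine (c : G) g) = offLine c g := fun c g => by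
    simp only [offLine]
    split_ifs <;> simp [Complex.conj_ofNat]
  -- values
  have hAone : mA (triv G) = 1 := by
    have h := hmA (triv G)
    rw [show ((triv G : Cfsg.IrrCharacter G) : G → ℂ) = fun _ => (1 : ℂ) from rfl,
      hF.inner_one hR] at h
    exact_mod_cast h.symm
  have hBone : mB (triv G) = 1 := by
    have h := hmB (triv G)
    rw [show ((triv G : Cfsg.IrrCharacter G) : G → ℂ) = fun _ => (1 : ℂ) from rfl,
      hs.inner_one hR] at h
    exact_mod_cast h.symm
  set k : Cfsg.IrrCharacter G → ℂ := fun χ =>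
    Cfsg.classInner (fun g => offLine b g * offLine a g) (χ : G → ℂ) with hk
  have hkval : ∀ χ ∈ Cfsg.principalBlock M G, k χ = conj ((χ : G → ℂ) (a * b)) := by
    intro χ hχ
    simp only [hk, Cfsg.classInner, hF.mul_eq hR, ite_mul, zero_mul]
    rw [← Finset.sum_filter, ← Finset.mul_sum, inv_mul_eq_iff_eq_mul₀ hG0, ← map_sum]
    have h := congrArg conj ((hF.card_mixed hR).2 hM χ hχ)
    rw [map_mul, map_mul, Complex.conj_natCast, Complex.conj_ofNat] at h
    exact h
  have hgen : ∀ c, Cfsg.IsClassFunction G (offLine (c : G)) := fun c => offLine_class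
  -- integrality of the mixed multiplicities
  have hkZ : ∀ χ, ∃ n : ℤ, k χ = n := by
    intro χ
    obtain ⟨m, hm, -, -⟩ := Char.IsGen.exists_mult
      (Char.isGeneralized_mul (hF.isGeneralized_offLine hR) (hs.isGeneralized_offLine hR))
    exact ⟨m χ, hm χ⟩
  choose mC hmC using hkZ
  have hmC' : ∀ χ : Cfsg.IrrCharacter G,
      Cfsg.classInner (fun g => offLine b g * offLine a g) (χ : G → ℂ) = (mC χ : ℂ) := hmC
  have hCexp : ∀ g, offLine b g * offLine a g =
      ∑ χ : Cfsg.IrrCharacter G, (mC χ : ℂ) * (χ : G → ℂ) g := fun g => by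
    have h := Invol.apply_eq_sum (F := fun g => offLine b g * offLine a g) (fun g k => by
      simp only [hgen b g k, hgen a g k]) g
    simp only [hmC'] at h
    exact h.symm
  have hAexp : ∀ g, offLine b g = ∑ χ : Cfsg.IrrCharacter G, (mA χ : ℂ) * (χ : G → ℂ) g :=
    fun g => by
      have h := Invol.apply_eq_sum (hgen b) g
      simp only [hmA] at h
      exact h.symm
  -- inner products of generalized characters
  have hinner : ∀ (m m' : Cfsg.IrrCharacter G → ℤ) (f f' : G → ℂ),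
      Cfsg.IsClassFunction G f → (∀ χ : Cfsg.IrrCharacter G, Cfsg.classInner f (χ : G → ℂ) = m χ) →
      (∀ χ : Cfsg.IrrCharacter G, Cfsg.classInner f' (χ : G → ℂ) = m' χ) →
      Cfsg.classInner f f' = ((∑ χ, m χ * m' χ : ℤ) : ℂ) := by
    intro m m' f f' hf hm hm'
    rw [Char.classInner_eq_sum hf]
    push_cast
    refine Finset.sum_congr rfl fun χ _ => ?_
    rw [hm, ← Char.classInner_conj_symm, hm' χ]
    simp
  have hAA : ∑ χ, mA χ * mA χ = 3 := by
    have h := hinner mA mA _ _ (hgen b) hmA hmA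
    have e : Cfsg.classInner (offLine b) (offLine b) =
        3 * Cfsg.classInner (offLine b) (fun _ => (1 : ℂ)) := by
      simp only [Cfsg.classInner, offLine_self, map_one, mul_one, ← Finset.mul_sum]
      ring
    rw [e, hF.inner_one hR, mul_one] at h
    exact_mod_cast h.symm
  have hBB : ∑ χ, mB χ * mB χ = 3 := by
    have h := hinner mB mB _ _ (hgen a) hmB hmB
    have e : Cfsg.classInner (offLine a) (offLine a) =
        3 * Cfsg.classInner (offLine a) (fun _ => (1 : ℂ)) := by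
      simp only [Cfsg.classInner, offLine_self, map_one, mul_one, ← Finset.mul_sum]
      ring
    rw [e, hs.inner_one hR, mul_one] at h
    exact_mod_cast h.symm
  have hAB : ∑ χ, mA χ * mB χ = 1 := by
    have h := hinner mA mB _ _ (hgen b) hmA hmB
    have e : Cfsg.classInner (offLine b) (offLine a) =
        Cfsg.classInner (fun g => offLine b g * offLine a g) (fun _ => (1 : ℂ)) := by
      simp only [Cfsg.classInner, hreal, map_one, mul_one]
    rw [e, h9] at h
    exact_mod_cast h.symm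
  have hcc : Cfsg.IsClassFunction G (fun g => offLine b g * offLine a g) := fun g k => by
    simp only [hgen b g k, hgen a g k]
  have hAC : ∑ χ, mC χ * mA χ = 3 := by
    have h := hinner mC mA _ _ hcc hmC' hmA
    have e : Cfsg.classInner (fun g => offLine b g * offLine a g) (offLine b) =
        3 * Cfsg.classInner (fun g => offLine b g * offLine a g) (fun _ => (1 : ℂ)) := by
      simp only [Cfsg.classInner, hreal, map_one, mul_one]
      rw [← mul_assoc, mul_comm (3 : ℂ), mul_assoc, Finset.mul_sum (a := (3 : ℂ))]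
      refine congrArg _ (Finset.sum_congr rfl fun g _ => ?_)
      have h := offLine_self (b := b) g
      rw [hreal] at h
      linear_combination offLine a g * h
    rw [e, h9, mul_one] at h
    exact_mod_cast h.symm
  have hBC : ∑ χ, mC χ * mB χ = 3 := by
    have h := hinner mC mB _ _ hcc hmC' hmB
    have e : Cfsg.classInner (fun g => offLine b g * offLine a g) (offLine a) =
        3 * Cfsg.classInner (fun g => offLine b g * offLine a g) (fun _ => (1 : ℂ)) := by
      simp only [Cfsg.classInner, hreal, map_one, mul_one]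
      rw [← mul_assoc, mul_comm (3 : ℂ), mul_assoc, Finset.mul_sum (a := (3 : ℂ))]
      refine congrArg _ (Finset.sum_congr rfl fun g _ => ?_)
      have h := offLine_self (b := a) g
      rw [hreal] at h
      linear_combination offLine b g * h
    rw [e, h9, mul_one] at h
    exact_mod_cast h.symm
  have hCC : ∑ χ, mC χ * mC χ = 9 := by
    have h := hinner mC mC _ _ hcc hmC' hmC'
    have e : Cfsg.classInner (fun g => offLine b g * offLine a g)
        (fun g => offLine b g * offLine a g) =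
        9 * Cfsg.classInner (fun g => offLine b g * offLine a g) (fun _ => (1 : ℂ)) := by
      simp only [Cfsg.classInner, map_mul, hreal, map_one, mul_one]
      rw [← mul_assoc, mul_comm (9 : ℂ), mul_assoc, Finset.mul_sum (a := (9 : ℂ))]
      refine congrArg _ (Finset.sum_congr rfl fun g _ => ?_)
      have h := offLine_self (b := b) g
      have h' := offLine_self (b := a) g
      rw [hreal] at h h'
      linear_combination (offLine a g * offLine a g) * h + 3 * offLine b g * h'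
    rw [e, h9, mul_one] at h
    exact_mod_cast h.symm
  have hCone : mC (triv G) = 1 := by
    have h := hmC' (triv G)
    rw [show ((triv G : Cfsg.IrrCharacter G) : G → ℂ) = fun _ => (1 : ℂ) from rfl, h9] at h
    exact_mod_cast h.symm
  -- the supports
  set T := (Finset.univ : Finset (Cfsg.IrrCharacter G)).erase (triv G) with hT
  have hsplit : ∀ f : Cfsg.IrrCharacter G → ℤ, ∑ χ, f χ = f (triv G) + ∑ χ ∈ T, f χ := fun f =>
    (Finset.add_sum_erase _ f (Finset.mem_univ _)).symm
  have hsupp : ∀ m : Cfsg.IrrCharacter G → ℤ, ∑ χ ∈ T, m χ * m χ = 2 →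
      ∃ x y, x ≠ y ∧ (T.filter fun χ => m χ ≠ 0) = {x, y} ∧ (m x = 1 ∨ m x = -1) ∧
        (m y = 1 ∨ m y = -1) := by
    intro m hm
    have hone : ∀ χ ∈ T, m χ ≠ 0 → m χ = 1 ∨ m χ = -1 := by
      intro χ hχ hne
      have h := Finset.single_le_sum (f := fun χ => m χ * m χ) (fun _ _ => mul_self_nonneg _) hχ
      rw [hm] at h
      have : -1 ≤ m χ ∧ m χ ≤ 1 := ⟨by nlinarith, by nlinarith⟩
      omega
    have hsum : ((T.filter fun χ => m χ ≠ 0).card : ℤ) = 2 := by
      rw [← hm, Finset.card_eq_sum_ones, Nat.cast_sum, Finset.sum_filter]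
      refine Finset.sum_congr rfl fun χ hχ => ?_
      split_ifs with h
      · rcases hone χ hχ h with e | e <;> simp [e]
      · push Not at h
        simp [h]
    obtain ⟨x, y, hxy, he⟩ := Finset.card_eq_two.1 (show (T.filter fun χ => m χ ≠ 0).card = 2 by
      exact_mod_cast hsum)
    have hx : x ∈ T.filter fun χ => m χ ≠ 0 := by rw [he]; simp
    have hy : y ∈ T.filter fun χ => m χ ≠ 0 := by rw [he]; simp
    rw [Finset.mem_filter] at hx hy
    exact ⟨x, y, hxy, he, hone x hx.1 hx.2, hone y hy.1 hy.2⟩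
  rw [hsplit, hAone] at hAA
  rw [hsplit, hBone] at hBB
  rw [hsplit, hAone, hBone] at hAB
  rw [hsplit, hCone, hAone] at hAC
  rw [hsplit, hCone, hBone] at hBC
  rw [hsplit, hCone] at hCC
  obtain ⟨χ₁, χ₂, hχ, hχs, hsA1, hsA2⟩ := hsupp mA (by linarith)
  obtain ⟨ψ₁, ψ₂, hψ, hψs, hsB1, hsB2⟩ := hsupp mB (by linarith)
  have hAsum : ∀ f : Cfsg.IrrCharacter G → ℤ,
      ∑ χ ∈ T, f χ * mA χ = f χ₁ * mA χ₁ + f χ₂ * mA χ₂ := fun f => by
    rw [← Finset.sum_pair (f := fun χ => f χ * mA χ) hχ, ← hχs]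
    exact (Finset.sum_filter_of_ne fun χ _ h => right_ne_zero_of_mul h).symm
  have hBsum : ∀ f : Cfsg.IrrCharacter G → ℤ,
      ∑ χ ∈ T, f χ * mB χ = f ψ₁ * mB ψ₁ + f ψ₂ * mB ψ₂ := fun f => by
    rw [← Finset.sum_pair (f := fun χ => f χ * mB χ) hψ, ← hψs]
    exact (Finset.sum_filter_of_ne fun χ _ h => right_ne_zero_of_mul h).symm
  have hmemA : ∀ χ ∈ ({χ₁, χ₂} : Finset _), χ ∈ T ∧ mA χ ≠ 0 := fun χ hχ => by
    rw [← hχs] at hχ; exact Finset.mem_filter.1 hχ
  have hmemB : ∀ χ ∈ ({ψ₁, ψ₂} : Finset _), χ ∈ T ∧ mB χ ≠ 0 := fun χ hχ => by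
    rw [← hψs] at hχ; exact Finset.mem_filter.1 hχ
  have hA1 : ∀ g, offLine b g = 1 + (mA χ₁ : ℂ) * (χ₁ : G → ℂ) g + (mA χ₂ : ℂ) * (χ₂ : G → ℂ) g := by
    intro g
    rw [hAexp g, ← Finset.add_sum_erase _ _ (Finset.mem_univ (triv G)), hAone, ← hT,
      ← Finset.sum_filter_of_ne (p := fun χ => mA χ ≠ 0) (fun χ _ h e => h (by simp [e])), hχs,
      Finset.sum_pair hχ]
    simp [triv]
    ring
  -- disjointness
  have hdisj : Disjoint ({χ₁, χ₂} : Finset (Cfsg.IrrCharacter G)) {ψ₁, ψ₂} := by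
    rw [Finset.disjoint_left]
    intro χ hA hB
    have hAB' : mA ψ₁ * mB ψ₁ + mA ψ₂ * mB ψ₂ = 0 := by
      rw [← hBsum]; linarith
    -- both overlap
    have hboth : ({χ₁, χ₂} : Finset (Cfsg.IrrCharacter G)) = {ψ₁, ψ₂} := by
      have hne1 : mA ψ₁ ≠ 0 ∧ mA ψ₂ ≠ 0 := by
        rcases Finset.mem_insert.1 hB with rfl | h
        · refine ⟨(hmemA _ hA).2, fun h0 => ?_⟩
          rw [h0, zero_mul, add_zero] at hAB'
          exact mul_ne_zero (hmemA _ hA).2 (hmemB _ hB).2 hAB'
        · rw [Finset.mem_singleton] at h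
          subst h
          refine ⟨fun h0 => ?_, (hmemA _ hA).2⟩
          rw [h0, zero_mul, zero_add] at hAB'
          exact mul_ne_zero (hmemA _ hA).2 (hmemB _ hB).2 hAB'
      refine (Finset.eq_of_subset_of_card_le ?_ (by rw [Finset.card_pair hχ, Finset.card_pair hψ])).symm
      rw [← hχs]
      intro ξ hξ
      refine Finset.mem_filter.2 ⟨(hmemB ξ hξ).1, ?_⟩
      rcases Finset.mem_insert.1 hξ with rfl | h
      · exact hne1.1
      · rw [Finset.mem_singleton.1 h]; exact hne1.2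
    -- then the sum of the two functions forces a degree one
    have hdeg : ∀ m : Cfsg.IrrCharacter G → ℤ, m (triv G) = 1 →
        (T.filter fun χ => m χ ≠ 0) = {χ₁, χ₂} → ∀ c,
        (∀ g, offLine (c : G) g = ∑ χ : Cfsg.IrrCharacter G, (m χ : ℂ) * (χ : G → ℂ) g) →
        1 + m χ₁ * (Cfsg.charDegree (χ₁ : G → ℂ) : ℤ) +
          m χ₂ * (Cfsg.charDegree (χ₂ : G → ℂ) : ℤ) = 0 := by
      intro m hm1 hms c hexp
      have h := hexp 1
      rw [offLine_regular (by rw [orderOf_one]; norm_num),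
        ← Finset.add_sum_erase _ _ (Finset.mem_univ (triv G)), hm1, ← hT,
        ← Finset.sum_filter_of_ne (p := fun χ => m χ ≠ 0) (fun χ _ h e => h (by simp [e])), hms,
        Finset.sum_pair hχ, ← charDegree_cast (Char.IsIrr.isCharacter χ₁.2),
        ← charDegree_cast (Char.IsIrr.isCharacter χ₂.2),
        show ((triv G : Cfsg.IrrCharacter G) : G → ℂ) 1 = 1 from rfl] at h
      have h' : (((1 + m χ₁ * (Cfsg.charDegree (χ₁ : G → ℂ) : ℤ) +
          m χ₂ * (Cfsg.charDegree (χ₂ : G → ℂ) : ℤ)) : ℤ) : ℂ) = 0 := by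
        push_cast at h ⊢
        linear_combination -h
      exact_mod_cast h'
    have hBexp : ∀ g, offLine a g = ∑ χ : Cfsg.IrrCharacter G, (mB χ : ℂ) * (χ : G → ℂ) g :=
      fun g => by
        have h := Invol.apply_eq_sum (hgen a) g
        simp only [hmB] at h
        exact h.symm
    have d1 := hdeg mA hAone hχs b hAexp
    have d2 := hdeg mB hBone (hψs.trans hboth.symm) a hBexp
    have hsumAB : mA χ₁ * mB χ₁ + mA χ₂ * mB χ₂ = 0 := by
      rw [mul_comm (mA χ₁), mul_comm (mA χ₂), ← hAsum]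
      linarith [Finset.sum_congr (s₁ := T) rfl fun χ (_ : χ ∈ T) => mul_comm (mA χ) (mB χ)]
    have hmB1 : mB χ₁ = 1 ∨ mB χ₁ = -1 := by
      have : χ₁ ∈ ({ψ₁, ψ₂} : Finset _) := hboth ▸ Finset.mem_insert_self _ _
      rcases Finset.mem_insert.1 this with e | e
      · rw [e]; exact hsB1
      · rw [Finset.mem_singleton.1 e]; exact hsB2
    have hmB2 : mB χ₂ = 1 ∨ mB χ₂ = -1 := by
      have : χ₂ ∈ ({ψ₁, ψ₂} : Finset _) := hboth ▸ by simp
      rcases Finset.mem_insert.1 this with e | e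
      · rw [e]; exact hsB1
      · rw [Finset.mem_singleton.1 e]; exact hsB2
    have h1 : Cfsg.charDegree (χ₁ : G → ℂ) = 1 ∨ Cfsg.charDegree (χ₂ : G → ℂ) = 1 := by
      rcases hsA1 with e1 | e1 <;> rcases hsA2 with e2 | e2 <;> rcases hmB1 with e3 | e3 <;>
        rcases hmB2 with e4 | e4 <;> rw [e1, e2, e3, e4] at hsumAB <;>
        rw [e1, e2] at d1 <;> rw [e3, e4] at d2 <;> omega
    rcases h1 with e | e
    · exact (Finset.mem_erase.1 (hmemA χ₁ (Finset.mem_insert_self _ _)).1).1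
        (eq_triv_of_degree_one hna e)
    · exact (Finset.mem_erase.1 (hmemA χ₂ (by simp)).1).1 (eq_triv_of_degree_one hna e)
  -- the mixed multiplicities
  have hblock : ∀ χ, mA χ ≠ 0 ∨ mB χ ≠ 0 → χ ∈ Cfsg.principalBlock M G := by
    intro χ h
    by_contra hout
    rcases h with h | h
    · have e := inner_eq_zero_of_not_mem hM (fun g k => offLine_pPart hF g k) hout
      rw [hmA χ] at e
      exact h (Int.cast_eq_zero.1 e)
    · have e := inner_eq_zero_of_not_mem hM (fun g k => offLine_pPart hs g k) hout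
      rw [hmB χ] at e
      exact h (Int.cast_eq_zero.1 e)
  set idx := (Subgroup.centralizer ({a * b} : Set G)).index with hidx
  have hidx3 : ¬ 3 ∣ idx := fun h => R.not_dvd_index (h.trans (Subgroup.index_dvd_of_le
    fun v hv => Subgroup.mem_centralizer_singleton_iff.2
      (congrArg Subtype.val (hF.comm.is_comm.comm (⟨v, hv⟩ : (R : Subgroup G))
        ⟨a * b, mul_mem hF.amem hF.bmem⟩))))
  have hab : ∀ χ : Cfsg.IrrCharacter G, χ ∈ Cfsg.principalBlock M G →
      (χ : G → ℂ) (a * b) = (mC χ : ℂ) ∧ mC χ ≠ 0 ∧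
        ((mC χ = 1 ∨ mC χ = -1) → ¬ 3 ∣ Cfsg.charDegree (χ : G → ℂ)) := by
    intro χ hχB
    have hv : (χ : G → ℂ) (a * b) = (mC χ : ℂ) := by
      have h := congrArg conj (hkval χ hχB)
      rw [Complex.conj_conj] at h
      rw [← h, hmC χ]
      simp
    refine ⟨hv, fun h0 => ?_, fun h1 h3 => ?_⟩
    · have hc := (mem_blockOf.1 hχB) (a * b)
      simp only [Cfsg.centralChar, hv, h0, Int.cast_zero, mul_zero, zero_div, mul_one, div_one,
        sub_zero] at hc
      exact hidx3 ((memLocalIdeal_natCast_iff hM _).1 hc)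
    · refine hidx3 ((memLocalIdeal_natCast_iff hM _).1 ?_)
      have e : (idx : ℂ) = (mC χ : ℂ) * ((Cfsg.charDegree (χ : G → ℂ) : ℂ) *
          Cfsg.centralChar (χ : G → ℂ) (a * b)) := by
        rw [Cfsg.centralChar, hv, charDegree_cast (Char.IsIrr.isCharacter χ.2),
          mul_div_cancel₀ _ (Char.IsIrr.one_ne_zero χ.2), ← hidx]
        have hsq : (mC χ : ℂ) * (mC χ : ℂ) = 1 := by rcases h1 with h' | h' <;> rw [h'] <;> norm_num
        linear_combination -(idx : ℂ) * hsq
      rw [e]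
      exact memLocalIdeal_mul_left hM
        (memLocalRing_of_isIntegral hM (by
          simpa using isIntegral_algebraMap (R := ℤ) (A := ℂ) (x := mC χ)))
        (memLocalIdeal_mul_right hM ((memLocalIdeal_natCast_iff hM _).2 h3)
          (memLocalRing_centralChar hM χ.2 _))
  have hkA : mC χ₁ * mA χ₁ + mC χ₂ * mA χ₂ = 2 := by rw [← hAsum]; linarith
  have hkB : mC ψ₁ * mB ψ₁ + mC ψ₂ * mB ψ₂ = 2 := by rw [← hBsum]; linarith
  have hle8 : mC χ₁ * mC χ₁ + mC χ₂ * mC χ₂ + (mC ψ₁ * mC ψ₁ + mC ψ₂ * mC ψ₂) ≤ 8 := by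
    have h := Finset.sum_le_sum_of_subset_of_nonneg (f := fun χ => mC χ * mC χ)
      (show ({χ₁, χ₂} : Finset _) ∪ {ψ₁, ψ₂} ⊆ T from Finset.union_subset
        (fun χ hχ => (hmemA χ hχ).1) (fun χ hχ => (hmemB χ hχ).1)) fun _ _ _ => mul_self_nonneg _
    rw [Finset.sum_union hdisj, Finset.sum_pair hχ, Finset.sum_pair hψ] at h
    linarith
  have hn1 := (hab χ₁ (hblock _ (Or.inl (hmemA χ₁ (by simp)).2))).2.1
  have hn2 := (hab χ₂ (hblock _ (Or.inl (hmemA χ₂ (by simp)).2))).2.1
  have hn3 := (hab ψ₁ (hblock _ (Or.inr (hmemB ψ₁ (by simp)).2))).2.1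
  have hn4 := (hab ψ₂ (hblock _ (Or.inr (hmemB ψ₂ (by simp)).2))).2.1
  have hbnd : ∀ n₁ n₂ : ℤ, ∀ s₁ s₂ : ℤ, n₁ ≠ 0 → n₂ ≠ 0 → (s₁ = 1 ∨ s₁ = -1) →
      (s₂ = 1 ∨ s₂ = -1) → n₁ * s₁ + n₂ * s₂ = 2 → n₁ * n₁ + n₂ * n₂ ≤ 6 →
      (n₁ = 1 ∨ n₁ = -1) ∧ (n₂ = 1 ∨ n₂ = -1) := by
    intro n₁ n₂ s₁ s₂ h1 h2 hs1 hs2 h h'
    have b1 : -2 ≤ n₁ ∧ n₁ ≤ 2 := ⟨by nlinarith, by nlinarith⟩
    have b2 : -2 ≤ n₂ ∧ n₂ ≤ 2 := ⟨by nlinarith, by nlinarith⟩
    rcases hs1 with rfl | rfl <;> rcases hs2 with rfl | rfl <;> omega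
  have hge : ∀ n₁ n₂ : ℤ, n₁ ≠ 0 → n₂ ≠ 0 → 2 ≤ n₁ * n₁ + n₂ * n₂ := fun n₁ n₂ h1 h2 => by
    have := mul_self_pos.2 h1
    have := mul_self_pos.2 h2
    omega
  obtain ⟨hu1, hu2⟩ := hbnd _ _ _ _ hn1 hn2 hsA1 hsA2 hkA (by linarith [hge _ _ hn3 hn4])
  obtain ⟨hu3, hu4⟩ := hbnd _ _ _ _ hn3 hn4 hsB1 hsB2 hkB (by linarith [hge _ _ hn1 hn2])
  refine ⟨χ₁, χ₂, ψ₁, ψ₂, mA χ₁, mA χ₂, hsA1, hsA2, hA1, fun χ hne => ?_, fun χ hχ4 => ?_, hdisj⟩
  · by_cases h1 : χ = triv G
    · exact Or.inl h1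
    right
    have : χ ∈ ({ψ₁, ψ₂} : Finset _) := by
      rw [← hψs, Finset.mem_filter]
      refine ⟨Finset.mem_erase.2 ⟨h1, Finset.mem_univ _⟩, fun h0 => hne ?_⟩
      rw [hmB χ, h0, Int.cast_zero]
    simpa using this
  · simp only [Finset.mem_insert, Finset.mem_singleton] at hχ4
    rcases hχ4 with rfl | rfl | rfl | rfl
    · exact ⟨(Finset.mem_erase.1 (hmemA _ (by simp)).1).1,
        (hab _ (hblock _ (Or.inl (hmemA _ (by simp)).2))).2.2 hu1⟩
    · exact ⟨(Finset.mem_erase.1 (hmemA _ (by simp)).1).1,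
        (hab _ (hblock _ (Or.inl (hmemA _ (by simp)).2))).2.2 hu2⟩
    · exact ⟨(Finset.mem_erase.1 (hmemB _ (by simp)).1).1,
        (hab _ (hblock _ (Or.inr (hmemB _ (by simp)).2))).2.2 hu3⟩
    · exact ⟨(Finset.mem_erase.1 (hmemB _ (by simp)).1).1,
        (hab _ (hblock _ (Or.inr (hmemB _ (by simp)).2))).2.2 hu4⟩

omit hna hR hF in
/-- The degrees, and the rationality of the two characters. -/
theorem pair_data {b : G} (hq : q.Prime) (hq5 : 5 ≤ q) (hcard : Nat.card G = 9 * 2 ^ e₂ * q ^ e)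
    (hna : ∃ u v : G, u * v ≠ v * u)
    {χ₁ χ₂ : Cfsg.IrrCharacter G} {s₁ s₂ : ℤ} (hs₁ : s₁ = 1 ∨ s₁ = -1) (hs₂ : s₂ = 1 ∨ s₂ = -1)
    (hF : ∀ g, offLine b g = 1 + (s₁ : ℂ) * (χ₁ : G → ℂ) g + (s₂ : ℂ) * (χ₂ : G → ℂ) g)
    (hne₁ : χ₁ ≠ triv G) (hne₂ : χ₂ ≠ triv G)
    (h3₁ : ¬ 3 ∣ Cfsg.charDegree (χ₁ : G → ℂ)) (h3₂ : ¬ 3 ∣ Cfsg.charDegree (χ₂ : G → ℂ)) :
    ∃ (x : ℕ) (θ η : Cfsg.IrrCharacter G) (t t' : ℤ), (q = 2 ^ x + 1 ∨ q + 1 = 2 ^ x) ∧
      (t = 1 ∨ t = -1) ∧ (t' = 1 ∨ t' = -1) ∧ Cfsg.charDegree (θ : G → ℂ) = 2 ^ x ∧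
      Cfsg.charDegree (η : G → ℂ) = q ∧ θ ≠ triv G ∧ η ≠ triv G ∧
      (θ = χ₁ ∨ θ = χ₂) ∧ IsFixed (θ : G → ℂ) ∧ IsFixed (η : G → ℂ) ∧
      (∀ g, offLine b g = 1 + (t : ℂ) * (θ : G → ℂ) g + (t' : ℂ) * (η : G → ℂ) g) := by
  classical
  set n := Cfsg.charDegree (χ₁ : G → ℂ) with hn
  set m := Cfsg.charDegree (χ₂ : G → ℂ) with hm
  have hrel : 1 + s₁ * (n : ℤ) + s₂ * (m : ℤ) = 0 := by
    have h := hF 1
    rw [offLine_regular (by rw [orderOf_one]; norm_num),
      ← charDegree_cast (Char.IsIrr.isCharacter χ₁.2), ← charDegree_cast (Char.IsIrr.isCharacter χ₂.2),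
      ← hn, ← hm] at h
    have h' : (((1 + s₁ * (n : ℤ) + s₂ * (m : ℤ)) : ℤ) : ℂ) = 0 := by
      push_cast at h ⊢
      linear_combination -h
    exact_mod_cast h'
  have hn1 : 1 < n := by
    have h0 := charDegree_pos χ₁.2
    rcases Nat.lt_or_ge 1 n with h | h
    · exact h
    · exact absurd (eq_triv_of_degree_one hna (by omega)) hne₁
  have hm1 : 1 < m := by
    have h0 := charDegree_pos χ₂.2
    rcases Nat.lt_or_ge 1 m with h | h
    · exact h
    · exact absurd (eq_triv_of_degree_one hna (by omega)) hne₂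
  have hnm : n = m + 1 ∨ m = n + 1 := by
    rcases hs₁ with rfl | rfl <;> rcases hs₂ with rfl | rfl <;> omega
  obtain ⟨x, hx, hc⟩ := consecutive hq hq5 hn1 hm1
    (dvd_two_q_of_not_three_dvd (hcard ▸ CharArith.charDegree_dvd_card χ₁.2) h3₁)
    (dvd_two_q_of_not_three_dvd (hcard ▸ CharArith.charDegree_dvd_card χ₂.2) h3₂) hnm
  have hne12 : n ≠ m := by omega
  have hfix : ∀ ξ : Cfsg.IrrCharacter G, ξ = χ₁ ∨ ξ = χ₂ → IsFixed (ξ : G → ℂ) := by
    intro ξ hξ σ
    set ξ' : Cfsg.IrrCharacter G := ⟨fun g => σ ((ξ : G → ℂ) g), Char.isIrr_map σ ξ.2⟩ with hξ'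
    suffices ξ' = ξ from fun g => congrFun (congrArg Subtype.val this) g
    have hdeg : Cfsg.charDegree (ξ' : G → ℂ) = Cfsg.charDegree (ξ : G → ℂ) := charDegree_eq (by
      show σ ((ξ : G → ℂ) 1) = _
      rw [← charDegree_cast (Char.IsIrr.isCharacter ξ.2), map_natCast])
    have hin : ∀ φ : Cfsg.IrrCharacter G, Cfsg.classInner (offLine b) (φ : G → ℂ) =
        (if triv G = φ then 1 else 0) + (s₁ : ℂ) * (if χ₁ = φ then 1 else 0) +
          (s₂ : ℂ) * (if χ₂ = φ then 1 else 0) := by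
      intro φ
      have e : offLine b = ((triv G : Cfsg.IrrCharacter G) : G → ℂ) + (s₁ : ℂ) • (χ₁ : G → ℂ) +
          (s₂ : ℂ) • (χ₂ : G → ℂ) := funext fun g => by
        simp [hF g, triv]
      rw [e, Char.classInner_add_left, Char.classInner_add_left, Char.classInner_smul_left,
        Char.classInner_smul_left, Char.classInner_irr (triv G).2 φ.2,
        Char.classInner_irr χ₁.2 φ.2, Char.classInner_irr χ₂.2 φ.2]
      simp only [Subtype.coe_inj]
    have hσ : Cfsg.classInner (offLine b) (ξ' : G → ℂ) =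
        σ (Cfsg.classInner (offLine b) (ξ : G → ℂ)) := by
      rw [← Char.classInner_map σ (Char.IsIrr.isCharacter ξ.2)]
      congr 1
      funext g
      show offLine b g = σ (offLine b g)
      by_cases h : InLine b g <;> simp [offLine, h, map_ofNat]
    rw [hin, hin] at hσ
    by_contra hne
    have hdeg1 : Cfsg.charDegree (ξ' : G → ℂ) ≠ 1 := by
      rcases hξ with rfl | rfl <;> rw [hdeg] <;> omega
    rcases hξ with rfl | rfl
    · rw [if_neg (fun h => hdeg1 (by rw [← h]; exact degree_eq_one_of_triv)), if_neg (fun h => hne h.symm),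
        if_neg (fun h => hne12 (by rw [hn, ← hdeg, ← h, hm])),
        if_neg hne₁.symm, if_pos rfl, if_neg (fun h => hne12 (by rw [hn, hm, h]))] at hσ
      rcases hs₁ with e | e <;> rw [e] at hσ <;> simp at hσ
    · rw [if_neg (fun h => hdeg1 (by rw [← h]; exact degree_eq_one_of_triv)),
        if_neg (fun h => hne12 (by rw [hm, ← hdeg, ← h, hn])), if_neg (fun h => hne h.symm),
        if_neg hne₂.symm, if_neg (fun h => hne12 (by rw [hn, hm, h])), if_pos rfl] at hσ
      rcases hs₂ with e | e <;> rw [e] at hσ <;> simp at hσ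
  rcases hc with ⟨h1, h2⟩ | ⟨h1, h2⟩
  · exact ⟨x, χ₂, χ₁, s₂, s₁, hx, hs₂, hs₁, h2, h1, hne₂, hne₁, Or.inr rfl, hfix _ (Or.inr rfl),
      hfix _ (Or.inl rfl), fun g => by rw [hF g]; ring⟩
  · exact ⟨x, χ₁, χ₂, s₁, s₂, hx, hs₁, hs₂, h1, h2, hne₁, hne₂, Or.inl rfl, hfix _ (Or.inl rfl),
      hfix _ (Or.inr rfl), hF⟩

/-- There is no group in this case. -/
theorem Four.elim (hq : q.Prime) (hq5 : 5 ≤ q) (hcard : Nat.card G = 9 * 2 ^ e₂ * q ^ e) :
    False := by
  classical
  have : Fact q.Prime := ⟨hq⟩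
  obtain ⟨M, hM⟩ := exists_isPModular 3 Nat.prime_three
  obtain ⟨χ₁, χ₂, ψ₁, ψ₂, s₁, s₂, hs₁, hs₂, hFA, hB, hall, hdisj⟩ := hF.exists_pair hR hna hM
  obtain ⟨φ₁, φ₂, ω₁, ω₂, t₁, t₂, ht₁, ht₂, hFB, -, hall', -⟩ := hF.symm.exists_pair hR hna hM
  obtain ⟨hne₁, h3₁⟩ := hall χ₁ (by simp)
  obtain ⟨hne₂, h3₂⟩ := hall χ₂ (by simp)
  obtain ⟨x, θ, η, t, t', hx, ht, ht', hθd, hηd, hθ1, hη1, hθmem, hθf, hηf, hFθ⟩ :=
    pair_data hq hq5 hcard hna hs₁ hs₂ hFA hne₁ hne₂ h3₁ h3₂
  obtain ⟨x', θ', η', u, u', hx', -, -, hθd', hηd', hθ1', -, hθmem', -, -, hFθ'⟩ :=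
    pair_data hq hq5 hcard hna ht₁ ht₂ hFB (hall' φ₁ (by simp)).1 (hall' φ₂ (by simp)).1
      (hall' φ₁ (by simp)).2 (hall' φ₂ (by simp)).2
  have hxx : x' = x := by
    have h4 : 4 ≤ 2 ^ x := by omega
    have h4' : 4 ≤ 2 ^ x' := by omega
    have hx2 : 2 ≤ x := by
      by_contra h
      interval_cases x <;> omega
    have hx2' : 2 ≤ x' := by
      by_contra h
      interval_cases x' <;> omega
    obtain ⟨c, rfl⟩ := Nat.exists_eq_add_of_le hx2
    obtain ⟨c', rfl⟩ := Nat.exists_eq_add_of_le hx2'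
    rw [pow_add] at hx hx'
    refine congrArg _ (Nat.pow_right_injective le_rfl ?_)
    show 2 ^ c' = 2 ^ c
    omega
  have hθθ : θ ≠ θ' := by
    intro h
    -- the supports are disjoint
    have hθψ : θ ∈ ({ψ₁, ψ₂} : Finset _) := by
      have hne : Cfsg.classInner (offLine a) (θ : G → ℂ) ≠ 0 := by
        have e : offLine a = ((triv G : Cfsg.IrrCharacter G) : G → ℂ) + (u : ℂ) • (θ' : G → ℂ) +
            (u' : ℂ) • (η' : G → ℂ) := funext fun g => by
          simp [hFθ' g, triv]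
        rw [e, Char.classInner_add_left, Char.classInner_add_left, Char.classInner_smul_left,
          Char.classInner_smul_left, Char.classInner_irr (triv G).2 θ.2,
          Char.classInner_irr θ'.2 θ.2, Char.classInner_irr η'.2 θ.2,
          if_neg (fun e => hθ1 (Subtype.ext e).symm), if_pos (by rw [h]),
          if_neg (fun e => by
            have h' := hηd'
            rw [e, hθd] at h'
            rcases hx with hh | hh <;> omega), mul_zero, mul_one, zero_add, add_zero]
        intro hu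
        have h0 := hFθ' 1
        rw [hu, zero_mul, add_zero, offLine_regular (by rw [orderOf_one]; norm_num),
          ← charDegree_cast (Char.IsIrr.isCharacter η'.2), hηd'] at h0
        have h1 : ((1 + u' * (q : ℤ) : ℤ) : ℂ) = 0 := by push_cast; exact h0.symm
        have h2 : 1 + u' * (q : ℤ) = 0 := by exact_mod_cast h1
        have h3 : (q : ℤ) ∣ 1 := ⟨-u', by linarith⟩
        have := Int.le_of_dvd one_pos h3
        omega
      rcases hB θ hne with e | e | e
      · exact absurd e hθ1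
      · simp [e]
      · simp [e]
    exact Finset.disjoint_left.1 hdisj (by rcases hθmem with e | e <;> simp [e]) hθψ
  subst hxx
  have hle : Cfsg.charDegree (η : G → ℂ) ≤ q + 1 := by rw [hηd]; omega
  obtain rfl : e = 1 := le_antisymm (exp_le_one hna hq5 hcard hη1 hle hηf) (exp_pos hna hcard)
  rw [pow_one] at hcard
  rcases small_cases hq hq5 hx with ⟨rfl, rfl⟩ | ⟨rfl, rfl⟩ | ⟨rfl, rfl⟩ | hx5
  · exact false_of_five hna hcard hθd hθd' hθθ hθf
  · obtain ⟨Q, hS, hQ, hC, -⟩ := seven_data hna hcard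
    exact hθθ ((degrees_of_two hS hQ hC (Or.inr rfl) hθ1).2 hθ1'
      (by rw [hθd]; norm_num) (by rw [hθd']; norm_num))
  · have h4 : e₂ = 4 := order_seventeen hna hcard (le_refl 4) fun hC =>
      exp_two_bound hna hq5 hcard ht ht' hθd hθ1 hηd hFθ (fun g hg => offLine_regular hg) hC
    have h2448 : Nat.card G = 2448 := by rw [hcard, h4]; norm_num
    have hp : Fact (Nat.Prime 17) := ⟨by norm_num⟩
    obtain ⟨f⟩ := S1020.result h2448 (F := ZMod 17) (ZMod.card 17)
    obtain ⟨g, hg⟩ := orderOf_seventeen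
    have hg' : orderOf (f.symm g) = 9 := by rw [MulEquiv.orderOf_eq, hg]
    obtain ⟨c, hc⟩ := exists_conj_mem R (show ∃ k, orderOf (f.symm g) = 3 ^ k from
      ⟨2, by rw [hg']; norm_num⟩)
    have h3 := orderOf_dvd_of_pow_eq_one (hF.pow_three hc)
    rw [show c * f.symm g * c⁻¹ = MulAut.conj c (f.symm g) from rfl, MulEquiv.orderOf_eq, hg'] at h3
    norm_num at h3
  · exact false_of_large hna hcard hx5 hx

end Cfsg.Agent.NineTwoPrimes
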